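import Cfsg.Agent.L5.Ra3

/-!
A Sylow subgroup with layers of dimensions `1, 3, 1` acting trivially on the middle layer and of
order at least `p ^ 2` is impossible.
-/

set_option autoImplicit false

namespace Cfsg.Agent.L5.Ra

open Matrix Cfsg.Agent.L5.R

variable {P k : Type*} [Group P] [Field k] {p r : ℕ} {ρ : P →* M5 k} {U H : Subgroup P}
  {f v : P → Fin 3 → k} {z α γ : P → k} {A : P → M3 k}

theorem gen9 [Finite P] (c : Gx 3 2 U H) : ∃ u ∈ U, ∃ w ∈ U, u ≠ 1 ∧ w ∉ Subgroup.zpowers u ∧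
    ∀ y : P → k, (∀ a ∈ U, ∀ b ∈ U, y (a * b) = y a + y b) → y u = 0 → y w = 0 → ∀ a ∈ U, y a = 0 := by
  haveI := Fact.mk Nat.prime_three
  obtain ⟨u, hu, u1⟩ := c.exists_ne
  have e1 : Nat.card (Subgroup.zpowers u) = 3 := by
    rw [Nat.card_zpowers, orderOf_eq_prime (c.exp u hu) u1]
  obtain ⟨w, hw, w1⟩ : ∃ w ∈ U, w ∉ Subgroup.zpowers u := by
    by_contra! e
    have := Subgroup.card_le_of_le (show U ≤ Subgroup.zpowers u from e)
    rw [e1, c.card] at this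
    omega
  refine ⟨u, hu, w, hw, u1, w1, fun y hy y1 y2 => ?_⟩
  have E : Ef U 1 y 1 := ⟨by simp, hy, by simp, one_ne_zero⟩
  have l1 : E.kr ≤ U := fun _ h => h.1
  have l2 : Subgroup.zpowers u ≤ E.kr := (Subgroup.zpowers_le_of_mem ⟨hu, y1⟩)
  obtain ⟨j, hj, e⟩ := (Nat.dvd_prime_pow Nat.prime_three).1 (c.card ▸ Subgroup.card_dvd_of_le l1)
  by_cases h2 : j = 2
  · rw [← Subgroup.eq_of_le_of_card_ge l1 (by rw [e, c.card, h2])]
    exact fun a ha => ha.2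
  · refine (w1 ?_).elim
    rw [Subgroup.eq_of_le_of_card_ge l2 (by
      rw [e, e1]; exact Nat.pow_le_pow_right (n := 3) (j := 1) (by norm_num) (by omega))]
    exact ⟨hw, y2⟩

theorem ex2 (a b : Fin 3 → k) : ∃ x : Fin 3 → k, x ≠ 0 ∧ a ⬝ᵥ x = 0 ∧ b ⬝ᵥ x = 0 := by
  obtain ⟨x, h0, e⟩ := exists_mulVec_eq_zero_iff.2
    (det_eq_zero_of_row_eq_zero (A := of ![a, b, 0]) 2 fun _ => rfl)
  exact ⟨x, h0, congrFun e 0, congrFun e 1⟩

namespace Sh
variable (s : Sh p r ρ U H f v z α γ A) {u w h g : P} [Finite P] [hp : Fact p.Prime] [CharP k p]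
  [IsAlgClosed k]
include s

omit [CharP k p] [IsAlgClosed k] in
theorem inv1 (hh : h ∈ H) {B : M3 k} (hB : ∀ u ∈ U, f u = B *ᵥ v u) (hu : u ∈ U) :
    ((A h)ᵀ * B * A h) *ᵥ v u = (α h * γ h) • f u := by
  obtain ⟨e1, e2, -⟩ := s.eqv hh hu
  rw [← mulVec_mulVec, ← mulVec_mulVec, ← e2, mulVec_smul, ← hB _ (s.c.conj hh hu), mulVec_smul,
    mulVec_transpose, e1, smul_smul, mul_comm]

theorem form' (hn : ∀ X : M5 k, ∑ᶠ u : U, ρ u * X * (ρ u)ᵀ = 0) (hz : ∀ u ∈ U, 2 * z u = f u ⬝ᵥ v u)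
    {B : M3 k} (hs : Bᵀ = B) (hd : B.det ≠ 0) (hB : ∀ u ∈ U, f u = B *ᵥ v u) : False := by
  have := Fintype.ofFinite H
  have n0 : (Fintype.card H : k) ≠ 0 := Nat.card_eq_fintype_card (α := H) ▸ s.c.card_ne
  have x0 : ∀ h ∈ H, α h * γ h ≠ 0 := fun h hh => mul_ne_zero (s.a0 hh) (s.g0 hh)
  obtain ⟨T, hT⟩ : ∃ T : M3 k, T = (Fintype.card H : k)⁻¹ •
    ∑ h : H, (α h * γ h)⁻¹ • ((A h)ᵀ * B * A h) := ⟨_, rfl⟩
  have t1 : Tᵀ = T := by simp [hT, transpose_sum, hs, mul_assoc]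
  have t2 : ∀ u ∈ U, f u = T *ᵥ v u := fun u hu => by
    rw [hT, smul_mulVec, sum_mulVec, Finset.sum_congr rfl fun (h : H) _ => by
      rw [smul_mulVec, s.inv1 h.2 hB hu, inv_smul_smul₀ (x0 _ h.2)], Finset.sum_const, Finset.card_univ,
      ← Nat.cast_smul_eq_nsmul k, inv_smul_smul₀ n0]
  refine s.form hn hz t1 (fun e => ?_) t2 fun g hg => ?_
  · obtain ⟨x, h0, e⟩ := exists_mulVec_eq_zero_iff.2 e
    refine hd (exists_mulVec_eq_zero_iff.1 ⟨x, h0, ?_⟩)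
    rw [← sub_zero (B *ᵥ x), ← e, ← sub_mulVec, e]
    exact funext fun i => s.orth (fun u hu => by
      rw [t2 u hu, ← vecMul_transpose, ← dotProduct_mulVec, t1, e, dotProduct_zero]) fun u hu =>
        congrFun (show (B - T) *ᵥ v u = 0 by rw [sub_mulVec, ← hB u hu, ← t2 u hu, sub_self]) i
  · rw [hT, mul_smul_comm, smul_mul_assoc, smul_comm (α g * γ g), Finset.mul_sum, Finset.sum_mul]
    congr 1
    rw [Finset.smul_sum]
    refine Fintype.sum_equiv (Equiv.mulRight (⟨g, hg⟩ : H)) _ _ fun h => ?_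
    obtain ⟨e1, e2, e3⟩ := s.mul h.2 hg
    have := x0 _ hg
    have := x0 _ h.2
    simp only [Equiv.coe_mulRight, Subgroup.coe_mul, e1, e2, e3, transpose_mul, mul_assoc,
      mul_smul_comm, smul_mul_assoc, smul_smul]
    congr 1
    field_simp [s.a0 hg, s.g0 hg, s.a0 h.2, s.g0 h.2]

section
variable (hF : ∀ x, (∀ u ∈ U, f u ⬝ᵥ x = 0) → x = 0) (hW : ∀ ξ, (∀ u ∈ U, ξ ⬝ᵥ v u = 0) → ξ = 0)
include hF hW

omit [CharP k p] [IsAlgClosed k] in
theorem exB : ∃ B : M3 k, Bᵀ = B ∧ B.det ≠ 0 ∧ (∀ u ∈ U, f u = B *ᵥ v u) ∧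
    ∀ h ∈ H, (A h)ᵀ * B * A h = (α h * γ h) • B ∧ (α h * γ h) ^ 5 = 1 := by
  have ex : ∀ M : M3 k, (∀ u ∈ U, M *ᵥ v u = 0) → M = 0 := fun M h =>
    funext fun i => hW _ fun u hu => congrFun (h u hu) i
  let V := Finsupp.linearCombination k fun u : U => v u
  let F := Finsupp.linearCombination k fun u : U => f u
  obtain ⟨G, hG⟩ := V.exists_rightInverse_of_surjective (by
    by_contra e
    obtain ⟨φ, h0, h1⟩ := Submodule.exists_le_ker_of_lt_top _ (lt_top_iff_ne_top.2 e)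
    obtain ⟨ξ, rfl⟩ := (dotProductEquiv k (Fin 3)).surjective φ
    exact h0 (by rw [hW ξ fun u hu => h1 ⟨Finsupp.single ⟨u, hu⟩ 1, by simp [V]⟩, map_zero]))
  have e1 : ∀ c, ∀ w ∈ U, F c ⬝ᵥ v w = f w ⬝ᵥ V c := fun c w hw => by
    induction c using Finsupp.induction_linear with
    | zero => simp
    | add a b h1 h2 => rw [map_add, map_add, add_dotProduct, dotProduct_add, h1, h2]
    | single a b => simp [V, F, s.sym a.2 hw]
  have e2 : ∀ u ∈ U, f u = LinearMap.toMatrix' (F ∘ₗ G) *ᵥ v u := fun u hu => by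
    rw [LinearMap.toMatrix'_mulVec, ← sub_eq_zero]
    exact hW _ fun w hw => by
      rw [sub_dotProduct, LinearMap.comp_apply, e1 _ w hw, show V (G (v u)) = v u from
        LinearMap.congr_fun hG _, s.sym hu hw, sub_self]
  generalize LinearMap.toMatrix' (F ∘ₗ G) = B at e2
  have e3 : Bᵀ = B := sub_eq_zero.1 (ex _ fun u hu => hW _ fun w hw => by
    rw [sub_mulVec, ← e2 u hu, mulVec_transpose, sub_dotProduct, ← dotProduct_mulVec, ← e2 w hw,
      dotProduct_comm, s.sym hu hw, sub_self])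
  have e4 : B.det ≠ 0 := fun e => by
    obtain ⟨x, h0, e⟩ := exists_mulVec_eq_zero_iff.2 e
    exact h0 (hF x fun u hu => by
      rw [e2 u hu, ← vecMul_transpose, ← dotProduct_mulVec, e3, e, dotProduct_zero])
  refine ⟨B, e3, e4, e2, fun h hh => ?_⟩
  have e5 : (A h)ᵀ * B * A h = (α h * γ h) • B := sub_eq_zero.1 (ex _ fun u hu => by
    rw [sub_mulVec, s.inv1 hh e2 hu, smul_mulVec, ← e2 u hu, sub_self])
  have e6 := congrArg Matrix.det e5
  have e7 := s.det hh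
  rw [det_mul, det_mul, det_transpose, det_smul, Fintype.card_fin] at e6
  exact ⟨e5, by grind⟩

theorem full0 (hh : h ∈ H) {β : Fin 3 → k} (e : A h = diagonal β)
    (n : Nz U fun u => 2 * z u - f u ⬝ᵥ v u) {κ : k} (hκ : κ = α h ^ 3 * γ h ^ 2) :
    ∃ c, 0 < c ∧ ((c ≤ r ∧ κ ^ p ^ c = κ ∧ ∃ i, κ * κ = κ ^ p ^ i) ∨
      (2 * c ≤ r ∧ (κ * κ) ^ p ^ c = κ * κ ∧ Tri p (κ * κ))) := by
  obtain ⟨B, -, e1, -, e2⟩ := s.exB hF hW
  obtain ⟨e2, e3⟩ := e2 h hh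
  have e4 := s.det hh
  have g0 := s.g0 hh
  have b0 := s.b0 hh e
  have e5 : (A h - (α h * γ h) ^ 3 • 1).det = 0 := by
    have h1 : (A h)ᵀ * B * (A h - (α h * γ h) ^ 3 • 1) =
        -(α h * γ h) ^ 3 • ((A h - (α h * γ h) ^ 3 • 1)ᵀ * B) := by
      rw [mul_sub, e2, transpose_sub, transpose_smul, transpose_one, sub_mul, mul_smul_comm,
        smul_mul_assoc, mul_one, one_mul]
      match_scalars <;> grind
    have h2 := congrArg Matrix.det h1
    have := s.two_ne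
    rw [det_mul, det_mul, det_transpose, det_smul, det_mul, det_transpose, Fintype.card_fin] at h2
    grind
  rw [e, smul_one_eq_diagonal, diagonal_sub, det_diagonal, Finset.prod_eq_zero_iff] at e5
  obtain ⟨j, -, hj⟩ := e5
  obtain ⟨σ, rfl⟩ : ∃ σ : Equiv.Perm (Fin 3), j = σ 0 := ⟨Equiv.swap j 0, by simp⟩
  have d : ∀ a b : Fin 3 → k, a (σ 0) * b (σ 0) + a (σ 1) * b (σ 1) + a (σ 2) * b (σ 2) = a ⬝ᵥ b :=
    fun a b => by rw [dotProduct, ← Equiv.sum_comp σ, Fin.sum_univ_three]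
  have w : α h / γ h = κ * κ := by rw [div_eq_iff g0]; grind
  have w' : ∀ i, α h / β i * (β i / γ h) = κ * κ := fun i => by rw [← w]; field_simp [b0]
  exact Ra.full (f₀ := fun u => f u (σ 0)) s.c.card (show β (σ 0) / γ h = κ by
      rw [div_eq_iff g0]; grind ▸ s.efV hh e (σ 0)) (by
      by_contra c
      simp only [Nz, not_exists, not_and, not_not] at c
      simpa using hW (Pi.single (σ 0) 1) fun u hu => by simpa using c u hu) (w ▸ s.efE hh) n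
    (s.efF hh e (σ 1)) (s.efF hh e (σ 2)) (s.efV hh e (σ 1)) (s.efV hh e (σ 2)) (w' _) (w' _)
    (fun u hu w hw => by rw [d, d, s.sym hu hw]) fun u hu e => s.an hu (by rw [← d, e])

theorem full (h3 : p = 3 → 3 ≤ r) : False := by
  have h5 : 2 + 2 + 1 ≤ r * (p - 1) := by
    by_cases e : p = 3
    · have := h3 e; subst e; omega
    · have := hp.out.two_le
      have := s.odd
      have : p ≠ 4 := by rintro rfl; exact absurd hp.out (by decide)
      have := Nat.mul_le_mul s.two (show 4 ≤ p - 1 by omega)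
      omega
  obtain ⟨B, e0, e1, e2, e3⟩ := s.exB hF hW
  by_cases n : Nz U fun u => 2 * z u - f u ⬝ᵥ v u
  swap
  · simp only [Nz, not_exists, not_and, not_not, sub_eq_zero] at n
    exact s.form (norm_sq_of s.c h5 fun i j => (dgA_entry _ s.lv (by decide) i j).dg) n e0 e1 e2
      fun h hh => (e3 h hh).1
  obtain ⟨h, hh, hg⟩ := gen (H := H) (fun h => α h ^ 3 * γ h ^ 2) (by simp [s.one])
    fun a ha b hb => by rw [(s.mul ha hb).1, (s.mul ha hb).2.2]; ring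
  obtain ⟨C, C', β, c1, c2⟩ := s.diag hh
  obtain ⟨c, c0, hc⟩ := (s.cjm c1).full0 (fun x hx => by
      have := hF (C *ᵥ x) fun u hu => by rw [dotProduct_mulVec, hx u hu]
      rw [← one_mulVec x, ← mul_eq_one_comm.1 c1, ← mulVec_mulVec, this, mulVec_zero]) (fun x hx => by
      have := hW (x ᵥ* C') fun u hu => by rw [← dotProduct_mulVec, hx u hu]
      rw [← vecMul_one x, ← mul_eq_one_comm.1 c1, ← vecMul_vecMul, this, zero_vecMul]) hh c2 (by
      simpa only [← dotProduct_mulVec, mulVec_mulVec, c1, one_mulVec] using n) rfl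
  obtain ⟨l, l', l0, l1, l2, l3⟩ := arith2 hp.out s.odd h3
    (mul_ne_zero (pow_ne_zero _ (s.a0 hh)) (pow_ne_zero _ (s.g0 hh))) c0 hc
  refine s.kill (t := Pi.single 0 1) (φ := Pi.single 0 1) (t' := Pi.single 4 1) (φ' := Pi.single 4 1)
    (d := 2) (d' := 2) (fun u hu => by rw [s.hu u hu, blk_e0, one_smul])
    (fun u hu => by rw [s.hu u hu, e4_blk, one_smul]) (fun j => by fin_cases j <;> simp)
    (fun j => by fin_cases j <;> simp) (by simp) (by simp) (by simp) l0 (l' := l')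
    (fun g hg' => ⟨_, _, by rw [s.hh g hg', blk_e0], by rw [s.hh _ (inv_mem hg'), e4_blk], ?_⟩)
    (by omega) (by omega)
  obtain ⟨n, hn⟩ := hg g hg'
  have f1 := (e3 g hg').2
  have f2 := (s.inv hg').2.2
  have f3 : (α g ^ 3 * γ g ^ 2) ^ (sm p l + sm p l') = 1 := by rw [hn, pow_right_comm, l2, one_pow]
  have f4 : ((α g * γ g) ^ 3) ^ (sm p l + 4 * sm p l') = 1 := by
    rcases l3 with rfl | l3
    · rw [show α g * γ g = 1 from sub_eq_zero.1 (eq_zero_of_pow_eq_zero (n := 5) (by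
        rw [sub_pow_char, f1]; simp))]; simp
    · obtain ⟨m, hm⟩ : 5 ∣ sm p l + 4 * sm p l' := by unfold Nat.ModEq at l3; omega
      rw [hm, pow_right_comm, pow_mul, f1]; simp
  have f5 : α g = (α g * γ g) ^ 3 * (α g ^ 3 * γ g ^ 2) := by linear_combination -α g * f1
  have f6 : γ g⁻¹ = ((α g * γ g) ^ 3) ^ 4 * (α g ^ 3 * γ g ^ 2) := by clear f3 f4 hn; grind
  generalize (α g * γ g) ^ 3 = ν at *
  generalize α g ^ 3 * γ g ^ 2 = κ at *
  rw [f5, f6, mul_pow, mul_pow, ← pow_mul, mul_mul_mul_comm, ← pow_add, ← pow_add, f3, f4, one_mul]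

end

end Sh

theorem special [Finite P] [CharP k 3] [IsAlgClosed k] (s : Sh 3 2 ρ U H f v z α γ A)
    (f0 : ∀ u ∈ U, f u 0 = 0) (v2 : ∀ u ∈ U, v u 2 = 0)
    (hA : ∀ h ∈ H, A h 1 0 = 0 ∧ A h 2 0 = 0 ∧ A h 2 1 = 0) : False := by
  haveI := Fact.mk Nat.prime_three
  have h3 : (3 : k) = 0 := CharP.cast_eq_zero k 3
  obtain ⟨u₁, m₁, u₂, m₂, n₁, n₂, van⟩ := gen9 (k := k) s.c
  have q : ∀ u ∈ U, ∀ w ∈ U, f u ⬝ᵥ v w = f u 1 * v w 1 := fun u hu w hw => by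
    simp [dotProduct, Fin.sum_univ_three, f0 u hu, v2 w hw]
  have ad : ∀ a ∈ U, ∀ b ∈ U, v (a * b) 1 = v a 1 + v b 1 := fun a ha b hb => by
    rw [(s.add ha hb).2.1]; rfl
  have ij : ∀ u ∈ U, v u 1 = 0 → u = 1 := fun u hu e => s.an hu (by rw [q u hu u hu, e, mul_zero])
  have s1 : v u₁ 1 ≠ 0 := mt (ij _ m₁) n₁
  have dt : v u₁ 1 * v u₂ 1 ^ 3 - v u₂ 1 * v u₁ 1 ^ 3 ≠ 0 := by
    have s2 : v u₂ 1 ≠ 0 := fun e => n₂ (ij _ m₂ e ▸ one_mem _)
    have s3 : v u₁ 1 + v u₂ 1 ≠ 0 := fun e => n₂ (by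
      rw [eq_inv_of_mul_eq_one_right (ij _ (mul_mem m₁ m₂) (by rw [ad _ m₁ _ m₂, e]))]
      exact inv_mem (Subgroup.mem_zpowers _))
    have s4 : v u₂ 1 - v u₁ 1 ≠ 0 := fun e => n₂ (by
      have := ad _ (mul_mem m₂ (inv_mem m₁)) _ m₁
      rw [inv_mul_cancel_right] at this
      rw [mul_inv_eq_one.1 (ij _ (mul_mem m₂ (inv_mem m₁)) (by linear_combination e - this))]
      exact Subgroup.mem_zpowers _)
    convert mul_ne_zero (mul_ne_zero s1 s2) (mul_ne_zero s3 s4) using 1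
    ring
  have ind : ∀ a b : k, (∀ u ∈ U, a * v u 1 + b * v u 1 ^ 3 = 0) → a = 0 ∧ b = 0 := fun a b e => by
    have := e _ m₁
    have := e _ m₂
    grind
  have fn : ∀ y : P → k, (∀ a ∈ U, ∀ b ∈ U, y (a * b) = y a + y b) →
      ∃ a b : k, ∀ u ∈ U, y u = a * v u 1 + b * v u 1 ^ 3 := fun y hy => by
    have i := mul_inv_cancel₀ dt
    generalize (v u₁ 1 * v u₂ 1 ^ 3 - v u₂ 1 * v u₁ 1 ^ 3)⁻¹ = δ at i
    exact ⟨(y u₁ * v u₂ 1 ^ 3 - y u₂ * v u₁ 1 ^ 3) * δ, (v u₁ 1 * y u₂ - v u₂ 1 * y u₁) * δ, fun u hu =>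
      sub_eq_zero.1 (van (fun u => y u - (_ * v u 1 + _ * v u 1 ^ 3)) (fun a ha b hb => by
        rw [hy a ha b hb, ad a ha b hb, add_pow_char]; ring) (by linear_combination -y u₁ * i)
        (by linear_combination -y u₂ * i) u hu)⟩
  obtain ⟨t, ht⟩ : ∃ t, ∀ u ∈ U, f u 1 = t * v u 1 := ⟨f u₁ 1 / v u₁ 1, fun u hu => by
    have := s.sym hu m₁
    rw [q _ hu _ m₁, q _ m₁ _ hu] at this
    field_simp
    linear_combination this⟩
  have t0 : t ≠ 0 := fun e => n₁ (s.an m₁ (by rw [q _ m₁ _ m₁, ht _ m₁, e]; simp))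
  obtain ⟨c₁, c₂, hc⟩ := fn (fun u => f u 2) fun a ha b hb => by rw [(s.add ha hb).1]; rfl
  obtain ⟨d₁, d₂, hd⟩ := fn (fun u => v u 0) fun a ha b hb => by rw [(s.add ha hb).2.1]; rfl
  obtain ⟨e₁, e₂, he⟩ := fn (fun u => 2 * z u - f u ⬝ᵥ v u) (s.efE (one_mem _)).add
  have c0 : c₂ ≠ 0 := fun e => by
    simpa [dotProduct, Fin.sum_univ_three, t0] using s.orth (x := ![0, -c₁, t]) (ξ := ![0, 0, 1])
      (fun u hu => by simp [dotProduct, Fin.sum_univ_three, ht u hu, hc u hu, e]; ring)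
      fun u hu => by simp [dotProduct, Fin.sum_univ_three, v2 u hu]
  have d0 : d₂ ≠ 0 := fun e => by
    simpa [dotProduct, Fin.sum_univ_three] using s.orth (x := ![1, 0, 0]) (ξ := ![1, -d₁, 0])
      (fun u hu => by simp [dotProduct, Fin.sum_univ_three, f0 u hu])
      fun u hu => by simp [dotProduct, Fin.sum_univ_three, hd u hu, e]
  have key : ∀ h ∈ H, A h 0 0 = A h 2 2 ∨ (e₁ = 0 ∧ e₂ = 0) := fun h hh => by
    obtain ⟨a1, a2, a3⟩ := hA h hh
    have g0 := s.g0 hh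
    have a0 := s.a0 hh
    obtain ⟨κ, hκ⟩ : ∃ κ, A h 1 1 = κ * γ h := ⟨_, (div_mul_cancel₀ _ g0).symm⟩
    have k1 : ∀ u ∈ U, v (h * u * h⁻¹) 1 = κ * v u 1 := fun u hu => mul_left_cancel₀ g0 (by
      have := congrFun (s.eqv hh hu).2.1 1
      simp [mulVec, dotProduct, Fin.sum_univ_three, a1, v2 u hu, hκ] at this
      linear_combination this)
    have k2 : κ * κ * γ h = α h := by
      have := congrFun (s.eqv hh m₁).1 1
      simp [vecMul, dotProduct, Fin.sum_univ_three, a3, f0 _ (s.c.conj hh m₁), ht _ (s.c.conj hh m₁),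
        ht _ m₁, k1 _ m₁, hκ] at this
      grind
    have k3 := (ind (t * κ * A h 1 2 + c₁ * κ * A h 2 2 - α h * c₁) (c₂ * (κ ^ 3 * A h 2 2 - α h))
      fun u hu => by
        have := congrFun (s.eqv hh hu).1 2
        simp [vecMul, dotProduct, Fin.sum_univ_three, f0 _ (s.c.conj hh hu), ht _ (s.c.conj hh hu),
          hc _ (s.c.conj hh hu), hc u hu, k1 u hu] at this
        linear_combination this).2
    have k4 := (ind (γ h * d₁ * κ - A h 0 0 * d₁ - A h 0 1) (d₂ * (γ h * κ ^ 3 - A h 0 0))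
      fun u hu => by
        have := congrFun (s.eqv hh hu).2.1 0
        simp [mulVec, dotProduct, Fin.sum_univ_three, v2 u hu, hd _ (s.c.conj hh hu), hd u hu,
          k1 u hu] at this
        linear_combination this).2
    obtain ⟨k5, k6⟩ := ind (e₁ * (κ - κ * κ)) (e₂ * (κ ^ 3 - κ * κ)) fun u hu => by
      have := (s.efE hh).eq u hu
      simp only [he _ (s.c.conj hh hu), he u hu, k1 u hu, ← k2, mul_div_cancel_right₀ _ g0] at this
      linear_combination this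
    clear k1 ind fn van he hd hc ht ad ij q hA f0 v2
    grind
  by_cases e : ∀ h ∈ H, A h 0 0 = A h 2 2
  · refine s.kill (t := em (Pi.single 0 1)) (φ := em (Pi.single 0 1)) (t' := em (Pi.single 2 1))
      (φ' := em (Pi.single 2 1)) (d := 1) (d' := 1) (fun u hu => by
        rw [s.hu u hu, blk_em, one_mulVec]; simp [f0 u hu]) (fun u hu => by
        rw [s.hu u hu, em_blk, vecMul_one]; simp [v2 u hu])
      (fun j => by fin_cases j <;> simp [em]) (fun j => by fin_cases j <;> simp [em])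
      (by simp [em_dot]) (by simp [em_dot]) rfl (l := [0]) (l' := [0]) (by simp)
      (fun g hg => ⟨A g 0 0, A g⁻¹ 2 2, ?_, ?_, ?_⟩) (by simp) (by simp)
    · rw [s.hh g hg, blk_em, ← em_smul, zero_dotProduct, zero_smul, zero_add]
      congr 1
      ext i
      fin_cases i <;> simp [hA g hg]
    · rw [s.hh _ (inv_mem hg), em_blk, ← em_smul, dotProduct_zero, zero_smul, zero_add]
      congr 1
      ext i
      fin_cases i <;> simp [hA _ (inv_mem hg)]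
    · simpa [sm, e g hg, mul_apply, Fin.sum_univ_three, hA g hg] using
        congrFun (congrFun (s.inv hg).2.1 2) 2
  push Not at e
  obtain ⟨h, hh, e⟩ := e
  obtain ⟨rfl, rfl⟩ := (key h hh).resolve_left e
  have hz : ∀ u ∈ U, 2 * z u = f u ⬝ᵥ v u := fun u hu => by simpa [sub_eq_zero] using he u hu
  refine s.form' (fun X => ?_) hz (B := !![0, 0, c₂ / d₂; 0, t, c₁ - c₂ / d₂ * d₁;
    c₂ / d₂, c₁ - c₂ / d₂ * d₁, 0]) (by ext i j; fin_cases i <;> fin_cases j <;> rfl)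
    (by simp [det_fin_three, t0, c0, d0]) fun u hu => ?_
  · have := Fintype.ofFinite U
    let M : Fin 4 → M5 k := ![1, blk 0 ![0, t, c₁] 0 0 ![d₁, 1, 0] 0, blk 0 0 (-t) 0 0 0,
      blk 0 ![0, 0, c₂] 0 0 ![d₂, 0, 0] 0]
    have e1 : ∀ u ∈ U, ρ u = ∑ a : Fin 4, v u 1 ^ a.1 • M a := fun u hu => by
      have := hz u hu
      rw [q u hu u hu, ht u hu] at this
      rw [s.hu u hu]
      ext i j
      fin_cases i <;> fin_cases j <;>
        simp [M, blk, Fin.sum_univ_four, f0 u hu, v2 u hu, ht u hu, hc u hu, hd u hu] <;> grind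
    have e2 : ∀ a b : Fin 4, ∑ u : U, v u 1 ^ (a.1 + b.1) = 0 := fun a b => by
      rw [← finsum_eq_sum_of_fintype]
      exact L4.R.pow_sum (x := fun u => v u 1) ad ij (by rw [s.c.card]; omega)
    rw [finsum_eq_sum_of_fintype, Finset.sum_congr rfl fun (u : U) _ => by rw [e1 u u.2]]
    simp only [transpose_sum, transpose_smul, Finset.sum_mul, Finset.mul_sum, smul_mul_assoc,
      mul_smul_comm, Finset.smul_sum, smul_smul, ← pow_add]
    rw [Finset.sum_comm]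
    refine Finset.sum_eq_zero fun a _ => ?_
    rw [Finset.sum_comm]
    exact Finset.sum_eq_zero fun b _ => by rw [← Finset.sum_smul, e2, zero_smul]
  · ext i
    fin_cases i <;> simp [mulVec, dotProduct, Fin.sum_univ_three, f0 u hu, v2 u hu, ht u hu, hc u hu,
      hd u hu]
    field_simp
    ring

theorem Sh.false [Finite P] [hp : Fact p.Prime] [CharP k p] [IsAlgClosed k]
    (s : Sh p r ρ U H f v z α γ A) : False := by
  have dv : ∀ ξ, (∀ u ∈ U, ξ ⬝ᵥ v u = 0) ↔ ∀ u ∈ U, v u⁻¹ ⬝ᵥ ξ = 0 := fun ξ =>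
    ⟨fun h u hu => by rw [dotProduct_comm, h _ (inv_mem hu)],
      fun h u hu => by rw [dotProduct_comm, ← h _ (inv_mem hu), inv_inv]⟩
  by_cases h3 : p = 3 → 3 ≤ r
  · exact s.full (fun x hx => by_contra fun h0 => s.mid h3 h0 hx)
      (fun x hx => by_contra fun h0 => s.du.mid h3 h0 ((dv x).1 hx)) h3
  obtain ⟨rfl, rfl⟩ : p = 3 ∧ r = 2 := by have := s.two; omega
  obtain ⟨u₁, m₁, u₂, m₂, -, -, van⟩ := gen9 (k := k) s.c
  obtain ⟨x, x0, x1, x2⟩ := ex2 (f u₁) (f u₂)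
  obtain ⟨x, x0, x1, x2⟩ := s.eigF x0 (van (fun u => f u ⬝ᵥ x) (fun a ha b hb => by
    rw [(s.add ha hb).1, add_dotProduct]) x1 x2)
  obtain ⟨y, y0, y1, y2⟩ := ex2 (v u₁) (v u₂)
  obtain ⟨y, y0, y1, y2⟩ := s.du.eigF y0 fun u hu => van (fun u => v u ⬝ᵥ y) (fun a ha b hb => by
    rw [(s.add ha hb).2.1, add_dotProduct]) y1 y2 _ (inv_mem hu)
  replace y1 := (dv y).2 y1
  obtain ⟨C, C', c1, c2, c3⟩ := basis (show (0 : Fin 3) ≠ 2 by decide) x0 y0 (s.orth x1 y1)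
  have c4 := mul_eq_one_comm.1 c1
  refine special (s.cjm c1) (fun u hu => ?_) (fun u hu => ?_) fun h hh => ?_
  · rw [← x1 u hu, ← c2, dotProduct_mulVec]; simp
  · rw [← y1 u hu, ← c3, ← dotProduct_mulVec]; simp
  · obtain ⟨μ, e⟩ := x2 h hh
    obtain ⟨μ', e'⟩ := y2 _ (inv_mem hh)
    have e1 : (C' * A h * C) *ᵥ Pi.single 0 1 = μ • Pi.single 0 1 := by
      rw [← mulVec_mulVec, ← mulVec_mulVec, c2, e, mulVec_smul, ← c2, mulVec_mulVec, c4, one_mulVec]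
    have e2 : Pi.single 2 1 ᵥ* (C' * A h * C) = μ' • Pi.single 2 1 := by
      rw [inv_inv, mulVec_transpose] at e'
      rw [← vecMul_vecMul, ← vecMul_vecMul, c3, e', smul_vecMul, ← c3, vecMul_vecMul, c4, vecMul_one]
    exact ⟨by simpa using congrFun e1 1, by simpa using congrFun e1 2, by simpa using congrFun e2 1⟩

theorem eq_blk {X : M5 k} (h : X ∈ R.Pl ![2, 1, 1, 1, 0]) : X = blk (X 0 0) ![X 0 1, X 0 2, X 0 3] (X 0 4)
    !![X 1 1, X 1 2, X 1 3; X 2 1, X 2 2, X 2 3; X 3 1, X 3 2, X 3 3] ![X 1 4, X 2 4, X 3 4] (X 4 4) := by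
  ext i j
  fin_cases i <;> fin_cases j <;> first | rfl | exact h _ _ (by decide)

theorem eq_blk1 {X : M5 k} (h : X ∈ R.Pl ![2, 1, 1, 1, 0]) (e : Dl ![2, 1, 1, 1, 0] X = 1) :
    X = blk 1 ![X 0 1, X 0 2, X 0 3] (X 0 4) 1 ![X 1 4, X 2 4, X 3 4] 1 := by
  have e' : ∀ i j, ![2, 1, 1, 1, 0] i = ![2, 1, 1, 1, 0] j → X i j = (1 : M5 k) i j := fun i j e' => by
    rw [← e, Dl_apply, if_pos e']
  ext i j
  fin_cases i <;> fin_cases j <;> first | rfl | exact h _ _ (by decide) | exact e' _ _ rfl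

end Cfsg.Agent.L5.Ra

namespace Cfsg.Agent.L5.R

open Matrix Cfsg.Agent.L5.Ra

variable {P k : Type*} [Group P] [Field k] {p r : ℕ} {ρ : P →* M5 k} {U H : Subgroup P}

theorem iia [Finite P] [IsAlgClosed k] [Fact p.Prime] [CharP k p] (hp : p ≠ 2) (h : Hy ρ) (hS : NoS ρ)
    (c : Gx p r U H) (hr : 2 ≤ r) (h3 : ∀ u ∈ U, (ρ u - 1) ^ 3 = 0) {a b : Fin 5 → k}
    (hab : ∀ u ∈ U, ∀ v ∈ U, ∃ c : k, (ρ u - 1) * (ρ v - 1) = c • vecMulVec a b)
    (hm : ∀ u ∈ U, ∀ x, b ⬝ᵥ x = 0 → ∃ c : k, (ρ u - 1) *ᵥ x = c • a) : False := by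
  have k1 : ∀ u ∈ U, u ≠ 1 → a ≠ 0 ∧ b ≠ 0 ∧ b ⬝ᵥ a = 0 ∧ (ρ u - 1) *ᵥ a = 0 ∧ b ᵥ* (ρ u - 1) = 0 :=
    fun u hu u1 => by
    obtain ⟨x, e⟩ := hab u hu u hu
    have n := mt (hS u) u1
    rw [e, smul_eq_zero, vecMulVec_eq_zero, not_or, not_or] at n
    have e1 := h3 u hu
    have e2 := e1
    rw [pow_three, e, mul_smul_comm, mul_vecMulVec, smul_eq_zero, vecMulVec_eq_zero] at e1
    rw [pow_three', e, smul_mul_assoc, vecMulVec_mul, smul_eq_zero, vecMulVec_eq_zero] at e2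
    have e3 := (e1.resolve_left n.1).resolve_right n.2.2
    have e4 := congrArg (· *ᵥ a) e
    simp only [← mulVec_mulVec, e3, mulVec_zero, smul_mulVec, vecMulVec_mulVec] at e4
    exact ⟨n.2.1, n.2.2, by simpa [n] using e4.symm, e3, (e2.resolve_left n.1).resolve_left n.2.1⟩
  obtain ⟨u₀, m₀, n₀⟩ := c.exists_ne
  obtain ⟨a0, b0, ba, -⟩ := k1 u₀ m₀ n₀
  obtain ⟨C, C', c1, c2, c3⟩ := basis (show (0 : Fin 5) ≠ 4 by decide) a0 b0 ba
  have c4 := mul_eq_one_comm.1 c1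
  have k2 : ∀ u ∈ U, cj c1 ρ u ∈ Pl ![2, 1, 1, 1, 0] ∧ Dl ![2, 1, 1, 1, 0] (cj c1 ρ u) = 1 := fun u hu => by
    by_cases u1 : u = 1
    · rw [u1, map_one]
      exact ⟨Dl_one (k := k) _ ▸ Dl_mem _ _, Dl_one _⟩
    obtain ⟨-, -, -, e1, e2⟩ := k1 u hu u1
    have f1 : ∀ i, (cj c1 ρ u - 1) i 0 = 0 := fun i => by
      have : (cj c1 ρ u - 1) *ᵥ Pi.single 0 1 = 0 := by
        rw [cj_sub, ← mulVec_mulVec, ← mulVec_mulVec, c2, e1, mulVec_zero]
      simpa using congrFun this i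
    have f2 : ∀ j, (cj c1 ρ u - 1) 4 j = 0 := fun j => by
      have : Pi.single 4 1 ᵥ* (cj c1 ρ u - 1) = 0 := by
        rw [cj_sub, ← vecMul_vecMul, ← vecMul_vecMul, c3, e2, zero_vecMul]
      simpa using congrFun this j
    have f3 : ∀ i j, i ≠ 0 → j ≠ 4 → (cj c1 ρ u - 1) i j = 0 := fun i j hi hj => by
      obtain ⟨x, e⟩ := hm u hu (C *ᵥ Pi.single j 1) (by
        rw [← c3, dotProduct_mulVec, vecMul_vecMul, c4]; simp [hj.symm])
      have : (cj c1 ρ u - 1) *ᵥ Pi.single j 1 = x • Pi.single 0 1 := by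
        rw [cj_sub, ← mulVec_mulVec, ← mulVec_mulVec, e, mulVec_smul, ← c2, mulVec_mulVec, c4, one_mulVec]
      simpa [hi] using congrFun this i
    simp only [Matrix.sub_apply, sub_eq_zero] at f1 f2 f3
    refine ⟨fun i j e => ?_, ?_⟩
    · fin_cases i <;> fin_cases j <;> simp [f1, f2, f3] at e ⊢
    · ext i j
      fin_cases i <;> fin_cases j <;> simp [Dl_apply, f1, f2, f3]
  have k3 : ∀ u ∈ U, ∃ q : k, (cj c1 ρ u - 1) * (cj c1 ρ u - 1) = blk 0 0 q 0 0 0 ∧ (u ≠ 1 → q ≠ 0) :=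
    fun u hu => by
    obtain ⟨q, e⟩ : ∃ q : k, (cj c1 ρ u - 1) * (cj c1 ρ u - 1) = blk 0 0 q 0 0 0 := by
      rw [eq_blk1 (k2 u hu).1 (k2 u hu).2, show ∀ f z v, blk 1 f z 1 v 1 - 1 = (blk 0 f z 0 v 0 : M5 k) from
        fun f z v => by ext i j; fin_cases i <;> fin_cases j <;> simp [blk], blk_mul]
      exact ⟨_, by simp; rfl⟩
    refine ⟨q, e, fun u1 q0 => u1 (hS.cj c1 u ?_)⟩
    rw [e, q0]
    ext i j
    fin_cases i <;> fin_cases j <;> rfl
  obtain ⟨B, B', hB, -, -, -, -, l1, l2⟩ := lev (ρ := cj c1 ρ) c.cop ![2, 1, 1, 1, 0] fun g hg => by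
    obtain ⟨q, e, q0⟩ := k3 u₀ m₀
    obtain ⟨q', e', q0'⟩ := k3 _ (c.conj hg m₀)
    have e1 : cj c1 ρ g * (cj c1 ρ u₀ - 1) = (cj c1 ρ (g * u₀ * g⁻¹) - 1) * cj c1 ρ g := by
      rw [mul_sub, sub_mul, ← map_mul, ← map_mul]; simp
    have e2 : cj c1 ρ g * blk 0 0 q 0 0 0 = blk 0 0 q' 0 0 0 * cj c1 ρ g := by
      rw [← e, ← e', ← mul_assoc, e1, mul_assoc, e1, mul_assoc (_ - 1)]
    have f1 := fun i => congrFun (congrFun e2 i) 4
    have f2 := fun j => congrFun (congrFun e2 0) j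
    have := q0 n₀
    have := q0' (by simpa using n₀)
    have g1 := f1 1; have g2 := f1 2; have g3 := f1 3; have g4 := f1 4
    have g5 := f2 1; have g6 := f2 2; have g7 := f2 3
    simp [blk, mul_apply, Fin.sum_univ_succ, *] at g1 g2 g3 g4 g5 g6 g7
    intro i j e
    fin_cases i <;> fin_cases j <;> simp [*] at e ⊢
  generalize hρ : cj hB (cj c1 ρ) = σ at l1 l2
  refine Sh.false (ρ := σ) (f := fun u => ![σ u 0 1, σ u 0 2, σ u 0 3])
    (v := fun u => ![σ u 1 4, σ u 2 4, σ u 3 4]) (z := fun u => σ u 0 4) (α := fun u => σ u 0 0)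
    (γ := fun u => σ u 4 4)
    (A := fun u => !![σ u 1 1, σ u 1 2, σ u 1 3; σ u 2 1, σ u 2 2, σ u 2 3; σ u 3 1, σ u 3 2, σ u 3 3])
    ⟨hρ ▸ (h.cj c1).cj hB, hρ ▸ (hS.cj c1).cj hB, c, hp, hr, fun u hu =>
      eq_blk1 (l2 u (k2 u hu).1).1 ((l2 u (k2 u hu).1).2.trans (k2 u hu).2), fun g hg => ?_⟩
  ext i j
  fin_cases i <;> fin_cases j <;> first | rfl | (rw [l1 g hg]; rfl)

end Cfsg.Agent.L5.R
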