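import Cfsg.Agent.L5.Defs
import Cfsg.Agent.L4.E5

/-!
Explicit matrices of size five.
-/

set_option autoImplicit false

namespace Cfsg.Agent.L5.E
open Matrix

section Five
variable {R : Type*} [CommRing R] (a00 a01 a02 a03 a04 a10 a11 a12 a13 a14 a20 a21 a22 a23 a24 a30 a31 a32 a33 a34 a40 a41 a42 a43 a44 b00 b01 b02 b03 b04 b10 b11 b12 b13 b14 b20 b21 b22 b23 b24 b30 b31 b32 b33 b34 b40 b41 b42 b43 b44 c : R)

theorem mul5 : !![a00, a01, a02, a03, a04; a10, a11, a12, a13, a14; a20, a21, a22, a23, a24; a30, a31, a32, a33, a34; a40, a41, a42, a43, a44] *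
    !![b00, b01, b02, b03, b04; b10, b11, b12, b13, b14; b20, b21, b22, b23, b24; b30, b31, b32, b33, b34; b40, b41, b42, b43, b44] =
    !![a00 * b00 + a01 * b10 + a02 * b20 + a03 * b30 + a04 * b40, a00 * b01 + a01 * b11 + a02 * b21 + a03 * b31 + a04 * b41, a00 * b02 + a01 * b12 + a02 * b22 + a03 * b32 + a04 * b42, a00 * b03 + a01 * b13 + a02 * b23 + a03 * b33 + a04 * b43, a00 * b04 + a01 * b14 + a02 * b24 + a03 * b34 + a04 * b44; a10 * b00 + a11 * b10 + a12 * b20 + a13 * b30 + a14 * b40, a10 * b01 + a11 * b11 + a12 * b21 + a13 * b31 + a14 * b41, a10 * b02 + a11 * b12 + a12 * b22 + a13 * b32 + a14 * b42, a10 * b03 + a11 * b13 + a12 * b23 + a13 * b33 + a14 * b43, a10 * b04 + a11 * b14 + a12 * b24 + a13 * b34 + a14 * b44; a20 * b00 + a21 * b10 + a22 * b20 + a23 * b30 + a24 * b40, a20 * b01 + a21 * b11 + a22 * b21 + a23 * b31 + a24 * b41, a20 * b02 + a21 * b12 + a22 * b22 + a23 * b32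 + a24 * b42, a20 * b03 + a21 * b13 + a22 * b23 + a23 * b33 + a24 * b43, a20 * b04 + a21 * b14 + a22 * b24 + a23 * b34 + a24 * b44; a30 * b00 + a31 * b10 + a32 * b20 + a33 * b30 + a34 * b40, a30 * b01 + a31 * b11 + a32 * b21 + a33 * b31 + a34 * b41, a30 * b02 + a31 * b12 + a32 * b22 + a33 * b32 + a34 * b42, a30 * b03 + a31 * b13 + a32 * b23 + a33 * b33 + a34 * b43, a30 * b04 + a31 * b14 + a32 * b24 + a33 * b34 + a34 * b44; a40 * b00 + a41 * b10 + a42 * b20 + a43 * b30 + a44 * b40, a40 * b01 + a41 * b11 + a42 * b21 + a43 * b31 + a44 * b41, a40 * b02 + a41 * b12 + a42 * b22 + a43 * b32 + a44 * b42, a40 * b03 + a41 * b13 + a42 * b23 + a43 * b33 + a44 * b43, a40 * b04 + a41 * b14 + a42 * b24 + a43 * b34 + a44 * b44] := by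
  ext i j; fin_cases i <;> fin_cases j <;> simp [mul_apply, Fin.sum_univ_five]

theorem add5 : !![a00, a01, a02, a03, a04; a10, a11, a12, a13, a14; a20, a21, a22, a23, a24; a30, a31, a32, a33, a34; a40, a41, a42, a43, a44] +
    !![b00, b01, b02, b03, b04; b10, b11, b12, b13, b14; b20, b21, b22, b23, b24; b30, b31, b32, b33, b34; b40, b41, b42, b43, b44] =
    !![a00 + b00, a01 + b01, a02 + b02, a03 + b03, a04 + b04; a10 + b10, a11 + b11, a12 + b12, a13 + b13, a14 + b14; a20 + b20, a21 + b21, a22 + b22, a23 + b23, a24 + b24; a30 + b30, a31 + b31, a32 + b32, a33 + b33, a34 + b34; a40 + b40, a41 + b41, a42 + b42, a43 + b43, a44 + b44] := by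
  ext i j; fin_cases i <;> fin_cases j <;> rfl

theorem smul5 : c • !![a00, a01, a02, a03, a04; a10, a11, a12, a13, a14; a20, a21, a22, a23, a24; a30, a31, a32, a33, a34; a40, a41, a42, a43, a44] =
    !![c * a00, c * a01, c * a02, c * a03, c * a04; c * a10, c * a11, c * a12, c * a13, c * a14; c * a20, c * a21, c * a22, c * a23, c * a24; c * a30, c * a31, c * a32, c * a33, c * a34; c * a40, c * a41, c * a42, c * a43, c * a44] := by
  ext i j; fin_cases i <;> fin_cases j <;> rfl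

theorem ext5 : !![a00, a01, a02, a03, a04; a10, a11, a12, a13, a14; a20, a21, a22, a23, a24; a30, a31, a32, a33, a34; a40, a41, a42, a43, a44] =
    !![b00, b01, b02, b03, b04; b10, b11, b12, b13, b14; b20, b21, b22, b23, b24; b30, b31, b32, b33, b34; b40, b41, b42, b43, b44] ↔
    a00 = b00 ∧ a01 = b01 ∧ a02 = b02 ∧ a03 = b03 ∧ a04 = b04 ∧ a10 = b10 ∧ a11 = b11 ∧ a12 = b12 ∧ a13 = b13 ∧ a14 = b14 ∧ a20 = b20 ∧ a21 = b21 ∧ a22 = b22 ∧ a23 = b23 ∧ a24 = b24 ∧ a30 = b30 ∧ a31 = b31 ∧ a32 = b32 ∧ a33 = b33 ∧ a34 = b34 ∧ a40 = b40 ∧ a41 = b41 ∧ a42 = b42 ∧ a43 = b43 ∧ a44 = b44 := by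
  simp [← Matrix.ext_iff, Fin.forall_fin_succ, and_assoc]

theorem tr5 : !![a00, a01, a02, a03, a04; a10, a11, a12, a13, a14; a20, a21, a22, a23, a24; a30, a31, a32, a33, a34; a40, a41, a42, a43, a44]ᵀ =
    !![a00, a10, a20, a30, a40; a01, a11, a21, a31, a41; a02, a12, a22, a32, a42; a03, a13, a23, a33, a43; a04, a14, a24, a34, a44] := by
  ext i j; fin_cases i <;> fin_cases j <;> rfl

theorem eta5 (A : M5 R) : A = !![A 0 0, A 0 1, A 0 2, A 0 3, A 0 4; A 1 0, A 1 1, A 1 2, A 1 3, A 1 4; A 2 0, A 2 1, A 2 2, A 2 3, A 2 4; A 3 0, A 3 1, A 3 2, A 3 3, A 3 4; A 4 0, A 4 1, A 4 2, A 4 3, A 4 4] := by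
  ext i j; fin_cases i <;> fin_cases j <;> rfl

theorem one5 : (1 : M5 R) = !![1, 0, 0, 0, 0; 0, 1, 0, 0, 0; 0, 0, 1, 0, 0; 0, 0, 0, 1, 0; 0, 0, 0, 0, 1] := by
  ext i j; fin_cases i <;> fin_cases j <;> rfl

theorem zero5 : (0 : M5 R) = !![0, 0, 0, 0, 0; 0, 0, 0, 0, 0; 0, 0, 0, 0, 0; 0, 0, 0, 0, 0; 0, 0, 0, 0, 0] := eta5 0

theorem ex5 (A : M5 R) : ∃ a00 a01 a02 a03 a04 a10 a11 a12 a13 a14 a20 a21 a22 a23 a24 a30 a31 a32 a33 a34 a40 a41 a42 a43 a44 : R, A = !![a00, a01, a02, a03, a04; a10, a11, a12, a13, a14; a20, a21, a22, a23, a24; a30, a31, a32, a33, a34; a40, a41, a42, a43, a44] :=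
  ⟨_, _, _, _, _, _, _, _, _, _, _, _, _, _, _, _, _, _, _, _, _, _, _, _, _, eta5 A⟩

theorem mv5 (x0 x1 x2 x3 x4 : R) : !![a00, a01, a02, a03, a04; a10, a11, a12, a13, a14; a20, a21, a22, a23, a24; a30, a31, a32, a33, a34; a40, a41, a42, a43, a44] *ᵥ ![x0, x1, x2, x3, x4] =
    ![a00 * x0 + a01 * x1 + a02 * x2 + a03 * x3 + a04 * x4, a10 * x0 + a11 * x1 + a12 * x2 + a13 * x3 + a14 * x4, a20 * x0 + a21 * x1 + a22 * x2 + a23 * x3 + a24 * x4, a30 * x0 + a31 * x1 + a32 * x2 + a33 * x3 + a34 * x4, a40 * x0 + a41 * x1 + a42 * x2 + a43 * x3 + a44 * x4] := by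
  ext i; fin_cases i <;> simp [mulVec, dotProduct, Fin.sum_univ_five]

theorem vm5 (x0 x1 x2 x3 x4 : R) : ![x0, x1, x2, x3, x4] ᵥ* !![a00, a01, a02, a03, a04; a10, a11, a12, a13, a14; a20, a21, a22, a23, a24; a30, a31, a32, a33, a34; a40, a41, a42, a43, a44] =
    ![x0 * a00 + x1 * a10 + x2 * a20 + x3 * a30 + x4 * a40, x0 * a01 + x1 * a11 + x2 * a21 + x3 * a31 + x4 * a41, x0 * a02 + x1 * a12 + x2 * a22 + x3 * a32 + x4 * a42, x0 * a03 + x1 * a13 + x2 * a23 + x3 * a33 + x4 * a43, x0 * a04 + x1 * a14 + x2 * a24 + x3 * a34 + x4 * a44] := by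
  ext i; fin_cases i <;> simp [vecMul, dotProduct, Fin.sum_univ_five]

theorem vext5 (x0 x1 x2 x3 x4 y0 y1 y2 y3 y4 : R) : ![x0, x1, x2, x3, x4] = ![y0, y1, y2, y3, y4] ↔
    x0 = y0 ∧ x1 = y1 ∧ x2 = y2 ∧ x3 = y3 ∧ x4 = y4 := by
  simp [funext_iff, Fin.forall_fin_succ]

theorem vsm5 (x0 x1 x2 x3 x4 : R) : c • ![x0, x1, x2, x3, x4] = ![c * x0, c * x1, c * x2, c * x3, c * x4] := by
  ext i; fin_cases i <;> rfl

theorem vex5 (x : Fin 5 → R) : ∃ x0 x1 x2 x3 x4 : R, x = ![x0, x1, x2, x3, x4] :=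
  ⟨x 0, x 1, x 2, x 3, x 4, by ext i; fin_cases i <;> rfl⟩

theorem vv5 (x0 x1 x2 x3 x4 y0 y1 y2 y3 y4 : R) : vecMulVec ![x0, x1, x2, x3, x4] ![y0, y1, y2, y3, y4] =
    !![x0 * y0, x0 * y1, x0 * y2, x0 * y3, x0 * y4; x1 * y0, x1 * y1, x1 * y2, x1 * y3, x1 * y4; x2 * y0, x2 * y1, x2 * y2, x2 * y3, x2 * y4; x3 * y0, x3 * y1, x3 * y2, x3 * y3, x3 * y4; x4 * y0, x4 * y1, x4 * y2, x4 * y3, x4 * y4] := by
  ext i j; fin_cases i <;> fin_cases j <;> rfl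

theorem detz : det !![a00, a01, a02, a03, a04; a10, a11, a12, a13, a14; 0, 0, a22, a23, a24; 0, 0, 0, a33, a34; 0, 0, 0, a43, a44] =
    (a00 * a11 - a01 * a10) * a22 * (a33 * a44 - a34 * a43) := by
  simp [det_succ_column_zero, Fin.sum_univ_succ, Fin.succAbove]
  ring

theorem detm : det !![a00, a01, a02, a03, a04; 0, a11, a12, a13, a14; 0, 0, a22, 0, a24; 0, a31, a32, a33, a34; 0, 0, 0, 0, a44] =
    a00 * a22 * (a11 * a33 - a13 * a31) * a44 := by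
  simp [det_succ_column_zero, Fin.sum_univ_succ, Fin.succAbove]
  ring

end Five

end Cfsg.Agent.L5.E
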