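import Cfsg.Agent.L5.Defs
import Cfsg.Agent.L4.R4

/-!
The Steiner system `S(4, 5, 11)` and its automorphism group.
-/

set_option autoImplicit false

namespace Cfsg.Agent.L5.M
open Equiv

/-- The blocks, as a table of bits. -/
def TB : ℕ := 0x10000000000000000010000000010000000080000000000000010000000020000040000000004000200000100000000402000000000000000000400000100000000200000000200100000000400000200400000010000000002000000004010080000000010000400008000200800000000000000000000000002000000040000100000010000000000400000020004200000000001000004000000100000020000800000002010000800000840000000000000000010010000000002000000400800000004000008200010000080000000000000000800204000040020000000000002400000000000000000000080000000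

/-- The set of five points as a number. -/
def msk (a b c d e : Fin 11) : ℕ := 2 ^ a.1 ||| 2 ^ b.1 ||| 2 ^ c.1 ||| 2 ^ d.1 ||| 2 ^ e.1

theorem msk_lt (a b c d e : Fin 11) : msk a b c d e < 2048 := by
  have : ∀ x : Fin 11, 2 ^ x.1 < 2 ^ 11 := fun x => Nat.pow_lt_pow_right (by norm_num) x.2
  exact Nat.or_lt_two_pow (Nat.or_lt_two_pow (Nat.or_lt_two_pow (Nat.or_lt_two_pow (n := 11)
    (this a) (this b)) (this c)) (this d)) (this e)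

theorem msk_bit (a b c d e x : Fin 11) :
    (msk a b c d e).testBit x.1 = true ↔ x = a ∨ x = b ∨ x = c ∨ x = d ∨ x = e := by
  simp only [msk, Nat.testBit_or, Nat.testBit_two_pow, Fin.val_inj, Bool.or_eq_true,
    decide_eq_true_eq, or_assoc, @eq_comm _ x]

/-- The five points form a block. -/
def Bl (a b c d e : Fin 11) : Prop :=
  TB.testBit (msk a b c d e) = true ∧ (a ≠ b ∧ a ≠ c ∧ a ≠ d ∧ b ≠ c ∧ b ≠ d ∧ c ≠ d) ∧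
    e ≠ a ∧ e ≠ b ∧ e ≠ c ∧ e ≠ d

instance blDec (a b c d e : Fin 11) : Decidable (Bl a b c d e) := by unfold Bl; infer_instance

theorem ex_bl : ∀ a b c d : Fin 11, a ≠ b → a ≠ c → a ≠ d → b ≠ c → b ≠ d → c ≠ d →
    ∃ e, Bl a b c d e := by decide +kernel

/-- The automorphism group. -/
def AutS : Subgroup (Perm (Fin 11)) :=
  L4.R.fsub (fun π => ∀ a b c d e, Bl a b c d e → Bl (π a) (π b) (π c) (π d) (π e))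
    (fun _ _ _ _ _ h => h) fun _ _ h h' _ _ _ _ _ e => h _ _ _ _ _ (h' _ _ _ _ _ e)

theorem mem_AutS {π : Perm (Fin 11)} (h : ∀ a b c d e e', Bl a b c d e →
    Bl (π a) (π b) (π c) (π d) e' → (msk (π a) (π b) (π c) (π d) e').testBit (π e).1 = true) :
    π ∈ AutS := fun a b c d e hb => by
  obtain ⟨-, ⟨h1, h2, h3, h4, h5, h6⟩, h7, h8, h9, h10⟩ := id hb
  obtain ⟨e', he⟩ := ex_bl (π a) (π b) (π c) (π d) (by simpa) (by simpa) (by simpa) (by simpa)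
    (by simpa) (by simpa)
  have := (msk_bit ..).1 (h _ _ _ _ _ _ hb he)
  simp only [π.injective.eq_iff, h7, h8, h9, h10, false_or] at this
  rwa [this]

theorem base {π : Perm (Fin 11)} (h : π ∈ AutS) (h0 : π 0 = 0) (h1 : π 1 = 1) (h2 : π 2 = 2)
    (h3 : π 3 = 3) : π = 1 := by
  have h' : ∀ a b c d e, Bl a b c d e → Bl (π a) (π b) (π c) (π d) (π e) := h
  have h4 : π 4 = 4 := (by decide +kernel : ∀ x, Bl 0 1 2 3 x → x = 4) _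
    (by simpa [h0, h1, h2, h3] using h' 0 1 2 3 4 (by decide +kernel))
  have h5 : π 5 = 5 := (by decide +kernel : ∀ x y z, Bl 0 1 2 x y → Bl 2 3 4 x y →
    Bl 0 1 3 x z → Bl 0 2 4 x z → x = 5) _ (π 8) (π 10)
    (by simpa [h0, h1, h2] using h' 0 1 2 5 8 (by decide +kernel))
    (by simpa [h2, h3, h4] using h' 2 3 4 5 8 (by decide +kernel))
    (by simpa [h0, h1, h3] using h' 0 1 3 5 10 (by decide +kernel))
    (by simpa [h0, h2, h4] using h' 0 2 4 5 10 (by decide +kernel))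
  have h6 : π 6 = 6 := (by decide +kernel : ∀ x, Bl 0 3 4 5 x → x = 6) _
    (by simpa [h0, h3, h4, h5] using h' 0 3 4 5 6 (by decide +kernel))
  have h7 : π 7 = 7 := (by decide +kernel : ∀ x, Bl 0 2 3 5 x → x = 7) _
    (by simpa [h0, h2, h3, h5] using h' 0 2 3 5 7 (by decide +kernel))
  have h8 : π 8 = 8 := (by decide +kernel : ∀ x, Bl 0 1 2 5 x → x = 8) _
    (by simpa [h0, h1, h2, h5] using h' 0 1 2 5 8 (by decide +kernel))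
  have h9 : π 9 = 9 := (by decide +kernel : ∀ x, Bl 0 1 4 5 x → x = 9) _
    (by simpa [h0, h1, h4, h5] using h' 0 1 4 5 9 (by decide +kernel))
  have h10 : π 10 = 10 := (by decide +kernel : ∀ x, Bl 0 1 3 5 x → x = 10) _
    (by simpa [h0, h1, h3, h5] using h' 0 1 3 5 10 (by decide +kernel))
  ext i
  fin_cases i <;> simp_all

/-- The translation by `1`. -/
def t1 : Perm (Fin 11) :=
  ⟨![0, 1, 5, 6, 7, 8, 9, 10, 2, 3, 4], ![0, 1, 8, 9, 10, 2, 3, 4, 5, 6, 7], by decide, by decide⟩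
/-- The translation by `I`. -/
def t2 : Perm (Fin 11) :=
  ⟨![0, 1, 3, 4, 2, 6, 7, 5, 9, 10, 8], ![0, 1, 4, 2, 3, 7, 5, 6, 10, 8, 9], by decide, by decide⟩
/-- The multiplication by `I`. -/
def rh : Perm (Fin 11) :=
  ⟨![0, 1, 2, 8, 5, 3, 9, 6, 4, 10, 7], ![0, 1, 2, 5, 8, 4, 7, 10, 3, 6, 9], by decide, by decide⟩
/-- A further element of order four. -/
def qq : Perm (Fin 11) :=
  ⟨![0, 1, 2, 6, 10, 9, 4, 5, 7, 8, 3], ![0, 1, 2, 10, 6, 7, 3, 8, 9, 5, 4], by decide, by decide⟩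

theorem three {G : Subgroup (Perm (Fin 11))} (h1 : t1 ∈ G) (h2 : t2 ∈ G) (h3 : rh ∈ G)
    {π π' : Perm (Fin 11)} (hπ : π ∈ G) (hπ' : π' ∈ G) (e : 2 ≤ π 0) (e' : 2 ≤ π' 1)
    (y : Perm (Fin 11)) : ∃ z ∈ G, z 0 = y 0 ∧ z 1 = y 1 ∧ z 2 = y 2 := by
  have c3 : ∀ a : Fin 11, a = 0 ∨ a = 1 ∨ 2 ≤ a := by decide
  have tl : ∀ a b : Fin 11, 2 ≤ a → 2 ≤ b → ∃ τ ∈ G, τ 0 = 0 ∧ τ 1 = 1 ∧ τ a = b := fun a b ha hb => by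
    obtain ⟨i, j, h⟩ := (by decide +kernel : ∀ a b : Fin 11, 2 ≤ a → 2 ≤ b → ∃ i j : Fin 3,
      (t1 ^ i.1 * t2 ^ j.1) 0 = 0 ∧ (t1 ^ i.1 * t2 ^ j.1) 1 = 1 ∧ (t1 ^ i.1 * t2 ^ j.1) a = b) a b ha hb
    exact ⟨_, mul_mem (pow_mem h1 _) (pow_mem h2 _), h⟩
  have T1 : ∀ a, ∃ z ∈ G, z 0 = a := fun a => by
    rcases c3 a with rfl | rfl | ha
    · exact ⟨1, one_mem _, rfl⟩
    · obtain ⟨τ, hτ, -, -, h⟩ := tl _ _ e e'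
      exact ⟨π'⁻¹ * τ * π, mul_mem (mul_mem (inv_mem hπ') hτ) hπ, by simp [h]⟩
    · obtain ⟨τ, hτ, -, -, h⟩ := tl _ _ e ha
      exact ⟨τ * π, mul_mem hτ hπ, h⟩
  have T2 : ∃ z ∈ G, z 0 = 0 ∧ z 1 ≠ 1 := by
    by_contra hc
    have hc : ∀ z ∈ G, z 0 = 0 → z 1 = 1 := fun z hz h => by
      by_contra h'; exact hc ⟨z, hz, h, h'⟩
    have key : ∀ z ∈ G, ∀ t ∈ G, t (z 0) = z 0 → t (z 1) = z 1 := fun z hz t ht h => by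
      simpa [symm_apply_eq] using
        hc (z⁻¹ * t * z) (mul_mem (mul_mem (inv_mem hz) ht) hz) (by simp [h])
    obtain ⟨τ, hτ, e0⟩ := T1 1
    obtain ⟨σ, hσ, e2⟩ := T1 2
    have e1 : τ 1 = 0 := by
      rcases (by decide : ∀ x, t1 x = x → x = 0 ∨ x = 1) _
        (key τ hτ t1 h1 (by rw [e0]; rfl)) with h | h
      · exact h
      · exact absurd (τ.injective (h.trans e0.symm)) (by decide)
    rcases (by decide : ∀ x, rh x = x → x = 0 ∨ x = 1 ∨ x = 2) _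
      (key σ hσ rh h3 (by rw [e2]; rfl)) with h | h | h
    · have := hc (σ * τ) (mul_mem hσ hτ) (by simp [e0, h])
      simp [e1, e2] at this
    · have := key τ hτ σ hσ (by rw [e0, h])
      simp [e1, e2] at this
    · exact absurd (σ.injective (h.trans e2.symm)) (by decide)
  have T3 : ∀ b, b ≠ 0 → ∃ z ∈ G, z 0 = 0 ∧ z 1 = b := fun b hb => by
    rcases c3 b with rfl | rfl | hb'
    · exact absurd rfl hb
    · exact ⟨1, one_mem _, rfl, rfl⟩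
    · obtain ⟨z, hz, e0, e1⟩ := T2
      rcases c3 (z 1) with h | h | h
      · exact absurd (z.injective (h.trans e0.symm)) (by decide)
      · exact absurd h e1
      · obtain ⟨τ, hτ, f0, -, f⟩ := tl _ _ h hb'
        exact ⟨τ * z, mul_mem hτ hz, by simp [e0, f0], f⟩
  obtain ⟨z1, m1, e1⟩ := T1 (y 0)
  obtain ⟨z2, m2, e2, e3⟩ := T3 (z1⁻¹ (y 1)) (by
    rw [Ne, Perm.inv_eq_iff_eq, e1, y.injective.eq_iff]; decide)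
  rw [Perm.eq_inv_iff_eq] at e3
  rcases c3 ((z1 * z2)⁻¹ (y 2)) with h | h | h
  · rw [Perm.inv_eq_iff_eq, Perm.mul_apply, e2, e1, y.injective.eq_iff] at h
    exact absurd h (by decide)
  · rw [Perm.inv_eq_iff_eq, Perm.mul_apply, e3, y.injective.eq_iff] at h
    exact absurd h (by decide)
  · obtain ⟨τ, hτ, f0, f1, f⟩ := tl 2 _ le_rfl h
    exact ⟨z1 * z2 * τ, mul_mem (mul_mem m1 m2) hτ, by simp [f0, e2, e1], by simp [f1, e3],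
      by rw [Perm.mul_apply, f]; simp⟩

theorem full {G : Subgroup (Perm (Fin 11))} (hG : G ≤ AutS) (h1 : t1 ∈ G) (h2 : t2 ∈ G)
    (h3 : rh ∈ G) {π π' x : Perm (Fin 11)} (hπ : π ∈ G) (hπ' : π' ∈ G) (e : 2 ≤ π 0)
    (e' : 2 ≤ π' 1) (hx : x ∈ AutS) (hq : x * x = qq) : G = AutS := by
  have hqq : qq ∈ AutS := hq ▸ mul_mem hx hx
  have key : ∀ y ∈ AutS, y ∈ G ∨ y * qq⁻¹ ∈ G := fun y hy => by
    obtain ⟨z, hz, e0, e1, e2⟩ := three h1 h2 h3 hπ hπ' e e' y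
    have f : ∀ {i}, z i = y i → (z⁻¹ * y) i = i := fun h => by simp [← h]
    have f3 : 3 ≤ (z⁻¹ * y) 3 := (by decide : ∀ a : Fin 11, a ≠ 0 → a ≠ 1 → a ≠ 2 → 3 ≤ a) _
      (fun h => absurd ((z⁻¹ * y).injective (h.trans (f e0).symm)) (by decide))
      (fun h => absurd ((z⁻¹ * y).injective (h.trans (f e1).symm)) (by decide))
      (fun h => absurd ((z⁻¹ * y).injective (h.trans (f e2).symm)) (by decide))
    have g : ∀ w ∈ AutS, w 0 = 0 → w 1 = 1 → w 2 = 2 → w 3 = (z⁻¹ * y) 3 → y = z * w :=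
      fun w hw a b c d => by
        have := base (mul_mem (inv_mem hw) (mul_mem (inv_mem (hG hz)) hy))
          (by rw [Perm.mul_apply, f e0, Perm.inv_eq_iff_eq, a])
          (by rw [Perm.mul_apply, f e1, Perm.inv_eq_iff_eq, b])
          (by rw [Perm.mul_apply, f e2, Perm.inv_eq_iff_eq, c])
          (by rw [Perm.mul_apply, Perm.inv_eq_iff_eq, d])
        rw [inv_mul_eq_one] at this
        rw [this]; simp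
    obtain ⟨i, ⟨a, b, c⟩, ⟨a', b', c'⟩, d | d⟩ := (by decide +kernel : ∀ d : Fin 11, 3 ≤ d →
      ∃ i : Fin 4, ((rh ^ i.1) 0 = 0 ∧ (rh ^ i.1) 1 = 1 ∧ (rh ^ i.1) 2 = 2) ∧
      ((rh ^ i.1 * qq) 0 = 0 ∧ (rh ^ i.1 * qq) 1 = 1 ∧ (rh ^ i.1 * qq) 2 = 2) ∧
      ((rh ^ i.1) 3 = d ∨ (rh ^ i.1 * qq) 3 = d)) _ f3
    · rw [g _ (hG (pow_mem h3 _)) a b c d]
      exact .inl (mul_mem hz (pow_mem h3 _))
    · rw [g _ (mul_mem (hG (pow_mem h3 _)) hqq) a' b' c' d]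
      exact .inr (by simpa [mul_assoc] using mul_mem hz (pow_mem h3 _))
  have hq' : qq ∈ G := by
    rcases key x hx with h | h
    · exact hq ▸ mul_mem h h
    rcases key x⁻¹ (inv_mem hx) with h' | h'
    · exact hq ▸ mul_mem (inv_mem_iff.1 h') (inv_mem_iff.1 h')
    · simpa [mul_assoc, hq] using mul_mem h (inv_mem h')
  refine le_antisymm hG fun y hy => (key y hy).elim id fun h => ?_
  simpa using mul_mem h hq'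

/-- The eleven points. -/
def pt : Fin 11 → Fin 5 → ZMod 3 :=
  ![![1, 1, 0, 0, 0], ![1, 2, 0, 0, 0], ![0, 0, 0, 0, 1], ![1, 0, 0, 1, 1], ![1, 0, 0, 2, 1],
    ![2, 0, 1, 0, 1], ![0, 1, 1, 1, 1], ![0, 2, 1, 2, 1], ![2, 0, 2, 0, 1], ![0, 2, 2, 1, 1],
    ![0, 1, 2, 2, 1]]

/-- The functionals vanishing on blocks. -/
def fns : List (List (ZMod 3)) := [[1, 0, 0, 1, 1], [1, 2, 0, 1, 0], [0, 0, 1, 0, 1], [0, 1, 0, 2, 0], [1, 2, 1, 2, 1], [1, 0, 2, 1, 0], [1, 2, 1, 0, 2], [1, 2, 2, 2, 0], [1, 1, 1, 0, 2], [0, 0, 1, 0, 0], [0, 0, 1, 2, 2], [1, 0, 1, 1, 0], [1, 2, 0, 2, 1], [0, 0, 1, 0, 2], [1, 1, 1, 1, 0], [1, 2, 2, 2, 2], [0, 0, 1, 2, 1], [0, 1, 1, 1, 1], [1, 1, 2, 0, 2], [1, 0, 1, 0, 2], [0, 0, 1, 2, 0], [1, 0, 0, 0, 0], [0, 0, 0, 1, 1], [1, 0, 2, 0, 2], [0, 1, 2, 0, 0], [1, 2, 1, 2, 0], [1, 1, 1, 2, 0], [1, 2, 2, 0, 2],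 [1, 2, 2, 1, 1], [1, 1, 2, 1, 2], [1, 1, 2, 2, 1], [1, 2, 1, 1, 0], [0, 1, 1, 0, 0], [0, 0, 0, 1, 2], [1, 2, 0, 1, 1], [1, 2, 0, 0, 1], [0, 0, 1, 1, 0], [1, 1, 0, 2, 1], [0, 1, 0, 1, 0], [1, 0, 0, 2, 1], [1, 2, 0, 2, 0], [0, 0, 0, 1, 0], [1, 1, 0, 0, 2], [1, 0, 2, 2, 0], [1, 1, 1, 0, 0], [1, 1, 1, 1, 1], [1, 2, 2, 1, 0], [1, 1, 1, 2, 2], [1, 1, 2, 1, 0], [1, 2, 1, 1, 2], [0, 1, 2, 2, 1], [1, 1, 2, 0, 0], [1, 1, 0, 1, 1], [1, 1, 2, 2, 0], [1, 0, 1, 2, 0], [0, 0, 1, 1, 1], [0, 1, 2, 1, 2], [1, 1, 0, 1, 0], [0, 1, 0, 0, 0], [0, 1, 1, 2, 2], [1, 2, 1, 0, 0], [1, 2, 0, 0, 2], [1, 1, 0, 2, 0], [1, 2, 2, 0, 0], [0, 0, 1, 1, 2], [1, 1, 0, 0, 1]]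

/-- The relations supported on blocks. -/
def rels : List (List (ZMod 3)) := [[0, 0, 0, 1, 0, 2, 0, 2, 2, 0, 2], [1, 0, 1, 0, 2, 0, 1, 2, 0, 0, 0], [1, 1, 0, 0, 0, 0, 0, 0, 2, 2, 2], [0, 0, 1, 0, 0, 2, 1, 1, 1, 0, 0], [1, 0, 0, 0, 2, 0, 2, 0, 0, 1, 1], [0, 0, 1, 0, 1, 0, 2, 0, 1, 0, 1], [1, 0, 0, 1, 2, 0, 0, 0, 1, 0, 2], [1, 0, 1, 1, 0, 0, 2, 0, 2, 0, 0], [0, 1, 0, 2, 1, 0, 0, 0, 1, 2, 0], [1, 1, 2, 2, 2, 0, 0, 0, 0, 0, 0], [1, 2, 0, 0, 2, 2, 0, 0, 0, 2, 0], [0, 0, 1, 0, 1, 1, 0, 1, 0, 2, 0], [1, 0, 0, 0, 2, 1, 0, 1, 2, 0, 0], [1, 1, 0, 0, 0, 2, 2, 2, 0, 0, 0], [0, 1, 2, 0, 1, 2, 1, 0, 0, 0, 0], [1, 0, 0, 0, 0, 1, 0, 2, 0, 1, 2], [1, 2, 0, 2, 0, 0, 0, 2, 2, 0, 0], [0, 0, 0, 0, 1, 0, 0, 1, 1, 1, 2], [0, 1, 0, 1, 2, 1, 0, 2, 0, 0, 0], [0, 0, 0, 1, 1, 0, 1, 1, 2, 0, 0], [1, 2, 2, 0, 0, 0, 2, 0, 0, 0, 2], [0, 0, 1, 0,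 0, 0, 2, 2, 0, 2, 2], [1, 1, 0, 0, 1, 0, 0, 1, 0, 0, 1], [0, 0, 0, 1, 1, 2, 0, 0, 0, 1, 1], [0, 0, 1, 2, 1, 0, 1, 0, 0, 1, 0], [1, 0, 2, 1, 0, 2, 0, 1, 0, 0, 0], [0, 1, 1, 1, 0, 2, 0, 0, 0, 2, 0], [1, 0, 0, 2, 1, 1, 2, 0, 0, 0, 0], [1, 0, 0, 2, 0, 0, 1, 1, 0, 0, 2], [0, 1, 0, 0, 0, 1, 2, 0, 0, 2, 1], [0, 1, 0, 0, 2, 0, 1, 1, 0, 2, 0], [1, 0, 1, 0, 1, 2, 0, 0, 0, 0, 2], [0, 0, 1, 1, 2, 0, 0, 1, 0, 0, 1], [1, 1, 0, 1, 0, 0, 1, 0, 0, 1, 0], [1, 0, 0, 2, 0, 2, 0, 0, 1, 1, 0], [1, 0, 0, 0, 0, 2, 1, 0, 2, 0, 1], [1, 2, 1, 0, 0, 0, 0, 1, 0, 1, 0], [0, 1, 0, 0, 2, 2, 0, 0, 1, 0, 1], [0, 0, 1, 0, 0, 1, 0, 0, 2, 1, 1], [0, 0, 0, 0, 1, 2, 2, 0, 2, 2, 0], [1, 0, 1, 2, 0, 0, 0, 0, 0, 2, 1], [1, 1, 1, 0, 0, 1, 0, 0, 1, 0, 0], [0, 1, 0, 1, 1, 0, 2, 0, 0, 0, 2], [0, 0, 1, 1, 0, 0, 0, 2, 1, 1, 0], [0, 1, 2, 0, 0, 1, 0, 1, 0, 0, 2],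 [0, 1, 0, 2, 0, 0, 0, 2, 0, 1, 1], [1, 0, 2, 0, 1, 0, 0, 0, 2, 1, 0], [0, 1, 0, 0, 0, 0, 1, 2, 1, 0, 2], [0, 1, 1, 0, 1, 0, 0, 2, 2, 0, 0], [1, 0, 0, 0, 0, 0, 2, 1, 1, 2, 0], [0, 0, 0, 1, 0, 1, 2, 1, 0, 1, 0], [0, 1, 2, 0, 0, 0, 2, 0, 1, 1, 0], [0, 1, 0, 2, 0, 1, 1, 0, 2, 0, 0], [0, 1, 2, 1, 0, 0, 0, 0, 2, 0, 1], [0, 0, 1, 1, 0, 1, 1, 0, 0, 0, 2], [1, 2, 0, 0, 1, 0, 1, 0, 1, 0, 0], [0, 0, 0, 1, 0, 0, 1, 0, 1, 2, 1], [0, 1, 1, 0, 2, 0, 0, 0, 0, 1, 2], [0, 0, 1, 2, 2, 2, 0, 0, 2, 0, 0], [0, 0, 0, 0, 1, 1, 1, 2, 0, 0, 1], [1, 0, 2, 0, 0, 1, 1, 0, 0, 2, 0], [1, 0, 0, 1, 1, 0, 0, 2, 0, 2, 0], [0, 1, 1, 2, 0, 0, 2, 1, 0, 0, 0], [1, 0, 2, 0, 0, 0, 0, 2, 1, 0, 1], [1, 2, 0, 1, 0, 1, 0, 0, 0, 0, 1], [0, 1, 0, 0, 0, 2, 0, 1, 2, 1, 0]]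

theorem ex_fn : ∀ m < 2048, TB.testBit m = true → ∃ f ∈ fns, ∀ e : Fin 11,
    (∑ l : Fin 5, f.getD l 0 * pt e l = 0 ↔ m.testBit e.1 = true) := by decide +kernel

theorem ex_rel : ∀ m < 2048, TB.testBit m = true → ∃ r ∈ rels,
    (∀ e : Fin 11, r.getD e 0 ≠ 0 ↔ m.testBit e.1 = true) ∧
      ∀ l, ∑ e : Fin 11, r.getD e 0 * pt e l = 0 := by decide +kernel

theorem pt_ind : ∀ i j : Fin 11, i ≠ j → ∃ l l', pt i l * pt j l' ≠ pt i l' * pt j l := by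
  decide +kernel

end Cfsg.Agent.L5.M
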