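import Cfsg.Agent.L5.RC1

/-!
A Sylow subgroup of prime order with a single Jordan block: the normal form.
-/

set_option autoImplicit false
set_option linter.unusedSectionVars false

namespace Cfsg.Agent.L5.R
open Finset Matrix
open Subgroup (normalizer)
open Cfsg.Agent.L5.E (mul5 add5 smul5 ext5 one5 ex5 tr5 mv5 vm5 vext5 vsm5 vex5 zero5)

variable {P k : Type*} [Group P] [Field k] {ρ : P →* M5 k} {U H : Subgroup P} {p : ℕ} {u : P}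

/-- Translation on polynomials of degree at most four. -/
def ex (t : k) : M5 k := !![1, t, t ^ 2, t ^ 3, t ^ 4; 0, 1, 2 * t, 3 * t ^ 2, 4 * t ^ 3;
  0, 0, 1, 3 * t, 6 * t ^ 2; 0, 0, 0, 1, 4 * t; 0, 0, 0, 0, 1]

/-- The torus. -/
def dg (μ κ : k) : M5 k := !![μ * κ ^ 4, 0, 0, 0, 0; 0, μ * κ ^ 3, 0, 0, 0; 0, 0, μ * κ ^ 2, 0, 0;
  0, 0, 0, μ * κ, 0; 0, 0, 0, 0, μ]

theorem ex_mul (s t : k) : ex s * ex t = ex (s + t) := by
  simp only [ex, mul5, ext5]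
  refine ⟨?_, ?_, ?_, ?_, ?_, ?_, ?_, ?_, ?_, ?_, ?_, ?_, ?_, ?_, ?_, ?_, ?_, ?_, ?_, ?_, ?_, ?_, ?_, ?_, ?_⟩ <;> ring

theorem ex_zero : ex (0 : k) = 1 := by rw [one5]; simp [ex]

theorem ex_pow (t : k) (i : ℕ) : ex t ^ i = ex (i * t) := by
  induction i with
  | zero => simp [ex_zero]
  | succ i ih => rw [pow_succ, ih, ex_mul]; push_cast; ring_nf

theorem dg_ex (μ κ t : k) : dg μ κ * ex t = ex (κ * t) * dg μ κ := by
  simp only [ex, dg, mul5, ext5]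
  refine ⟨?_, ?_, ?_, ?_, ?_, ?_, ?_, ?_, ?_, ?_, ?_, ?_, ?_, ?_, ?_, ?_, ?_, ?_, ?_, ?_, ?_, ?_, ?_, ?_, ?_⟩ <;> ring

theorem dg_det (μ κ : k) : (dg μ κ).det = μ ^ 5 * κ ^ 10 := by
  rw [dg, E.detm]; ring

/-- The cyclic basis. -/
def cb (N : M5 k) (v : Fin 5 → k) : M5 k :=
  (of ![v, N *ᵥ v, N *ᵥ N *ᵥ v, N *ᵥ N *ᵥ N *ᵥ v, N *ᵥ N *ᵥ N *ᵥ N *ᵥ v])ᵀ

theorem cb_spec {N : M5 k} {v : Fin 5 → k} (h : N ^ 5 = 0) (hv : N ^ 4 *ᵥ v ≠ 0) :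
    (∃ B', cb N v * B' = 1) ∧ N * cb N v = cb N v *
      !![0, 0, 0, 0, 0; 1, 0, 0, 0, 0; 0, 1, 0, 0, 0; 0, 0, 1, 0, 0; 0, 0, 0, 1, 0] := by
  have z : ∀ x, N *ᵥ N *ᵥ N *ᵥ N *ᵥ N *ᵥ x = 0 := fun x => by
    simpa only [pow_succ, pow_zero, one_mul, ← mulVec_mulVec, zero_mulVec] using congrArg (· *ᵥ x) h
  have hv : N *ᵥ N *ᵥ N *ᵥ N *ᵥ v ≠ 0 := by
    simpa only [pow_succ, pow_zero, one_mul, ← mulVec_mulVec] using hv
  refine ⟨cols_inv fun a e => ?_, col_ext fun j => by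
    fin_cases j <;> simp [Fin.sum_univ_five, z, -mulVec_mulVec]⟩
  simp only [Fin.sum_univ_five, Matrix.cons_val] at e
  have a0 : a 0 = 0 := by
    simpa [mulVec_add, mulVec_smul, z, hv, -mulVec_mulVec] using congrArg (N *ᵥ N *ᵥ N *ᵥ N *ᵥ ·) e
  have a1 : a 1 = 0 := by
    simpa [mulVec_add, mulVec_smul, z, hv, a0, -mulVec_mulVec] using congrArg (N *ᵥ N *ᵥ N *ᵥ ·) e
  have a2 : a 2 = 0 := by
    simpa [mulVec_add, mulVec_smul, z, hv, a0, a1, -mulVec_mulVec] using congrArg (N *ᵥ N *ᵥ ·) e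
  have a3 : a 3 = 0 := by
    simpa [mulVec_add, mulVec_smul, z, hv, a0, a1, a2, -mulVec_mulVec] using congrArg (N *ᵥ ·) e
  have a4 : a 4 = 0 := by simpa [hv, a0, a1, a2, a3, -mulVec_mulVec] using e
  intro i; fin_cases i <;> assumption

/-- The top vector. -/
def e4 (k : Type*) [Field k] : Fin 5 → k := ![0, 0, 0, 0, 1]

theorem ex_sub : ex (1 : k) - 1 =
    !![0, 1, 1, 1, 1; 0, 0, 2, 3, 4; 0, 0, 0, 3, 6; 0, 0, 0, 0, 4; 0, 0, 0, 0, 0] := by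
  rw [sub_eq_iff_eq_add, one5, add5]; simp [ex]

theorem ex_four : (ex (1 : k) - 1) ^ 4 =
    !![0, 0, 0, 0, 24; 0, 0, 0, 0, 0; 0, 0, 0, 0, 0; 0, 0, 0, 0, 0; 0, 0, 0, 0, 0] := by
  simp only [ex_sub, pow_succ, pow_zero, one_mul, mul5]; norm_num

theorem ex_five : (ex (1 : k) - 1) ^ 5 = 0 := by
  rw [pow_succ, ex_four, ex_sub, mul5, zero5]; simp

theorem ex_top (h : (24 : k) ≠ 0) : (ex (1 : k) - 1) ^ 4 *ᵥ e4 k ≠ 0 := fun e => h (by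
  simpa [ex_four, e4, mv5] using congrFun e 0)

theorem cb_e0 (N : M5 k) (v : Fin 5 → k) : cb N v *ᵥ Pi.single 0 1 = v := by
  ext i; simp [cb]

theorem nf1 (h : (24 : k) ≠ 0) {A : M5 k} {v : Fin 5 → k} (h5 : (A - 1) ^ 5 = 0)
    (hv : (A - 1) ^ 4 *ᵥ v ≠ 0) : ∃ F F' : M5 k, F * F' = 1 ∧ A * F = F * ex 1 ∧ F *ᵥ e4 k = v := by
  obtain ⟨⟨B', hB⟩, e1⟩ := cb_spec h5 hv
  obtain ⟨⟨C', hC⟩, e2⟩ := cb_spec ex_five (ex_top h)
  have hC' := mul_eq_one_comm.1 hC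
  refine ⟨cb (A - 1) v * C', cb (ex 1 - 1) (e4 k) * B', ?_, ?_, ?_⟩
  · rw [mul_assoc, ← mul_assoc C', hC', one_mul, hB]
  · have e3 := congrArg (fun X => cb (A - 1) v * C' * X * C') e2
    simp only [mul_assoc, hC, mul_one] at e3
    rw [← mul_assoc C' (cb _ _), hC', one_mul, ← mul_assoc (cb _ _) _ C', ← e1] at e3
    simpa only [mul_sub, sub_mul, mul_one, one_mul, sub_left_inj, mul_assoc] using e3.symm
  · rw [← cb_e0 (ex 1 - 1) (e4 k), mulVec_mulVec, mul_assoc, hC', mul_one, cb_e0]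

theorem rigid (h : (24 : k) ≠ 0) {A : M5 k} {μ κ : k} (h1 : A * ex 1 = ex κ * A)
    (h2 : A *ᵥ e4 k = μ • e4 k) : A = dg μ κ := by
  obtain ⟨⟨C', hC⟩, -⟩ := cb_spec ex_five (ex_top h)
  have h3 : ∀ x, (A - dg μ κ) *ᵥ (ex 1 - 1) *ᵥ x = (ex κ - 1) *ᵥ (A - dg μ κ) *ᵥ x := fun x => by
    simp only [mulVec_mulVec, mul_sub, sub_mul, h1, dg_ex, mul_one, one_mul]
    congr 1; abel
  have h4 : (A - dg μ κ) *ᵥ e4 k = 0 := by rw [sub_mulVec, h2, dg, e4, mv5, vsm5]; simp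
  have : (A - dg μ κ) * cb (ex 1 - 1) (e4 k) = cb (ex 1 - 1) (e4 k) * 0 := col_ext fun j => by
    fin_cases j <;> simp [h3, h4, -mulVec_mulVec]
  rw [← sub_eq_zero, ← mul_one (A - _), ← hC, ← mul_assoc, this, mul_zero, zero_mul]

/-- The normal form. -/
structure J5 (p : ℕ) (ρ : P →* M5 k) (U H : Subgroup P) (u : P) : Prop where
  mem : u ∈ U
  ne : u ≠ 1
  eu : ∀ i : ℕ, ρ (u ^ i) = ex (i : k)
  dg : ∀ x ∈ H, ∃ μ κ : k, κ ^ p = κ ∧ μ ^ 5 * κ ^ 10 = 1 ∧ ρ x = dg μ κ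

variable [Finite P] [hp : Fact p.Prime] [CharP k p]

theorem n24 (h5 : 5 ≤ p) : (24 : k) ≠ 0 := fun e => by
  have : p ∣ 2 ^ 3 * 3 := (CharP.cast_eq_zero_iff k p _).1 (by simpa using e)
  rcases (Nat.Prime.dvd_mul hp.out).1 this with h | h
  · have := Nat.le_of_dvd two_pos (hp.out.dvd_of_dvd_pow h); omega
  · have := Nat.le_of_dvd three_pos h; omega

theorem Gx.rel (c : Gx p 1 U H) (hu : u ∈ U) (u1 : u ≠ 1) (e : ρ u = ex 1) {x : P} (hx : x ∈ H) :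
    ∃ i : ℕ, ρ x * ex 1 = ex (i : k) * ρ x := by
  obtain ⟨i, h⟩ := c.gen hu u1 (c.conj hx hu)
  exact ⟨i, by rw [← mul_one (i : k), ← ex_pow, ← e, ← map_pow, ← h, ← map_mul, ← map_mul]; simp⟩

theorem Gx.nf (c : Gx p 1 U H) (h : Hy0 ρ) (h5 : 5 ≤ p) (hu : u ∈ U) (u1 : u ≠ 1)
    (h4 : (ρ u - 1) ^ 4 ≠ 0) : ∃ (B B' : M5 k) (hB : B * B' = 1), J5 p (cj hB ρ) U H u := by
  have t := n24 (k := k) h5
  obtain ⟨v, hv⟩ : ∃ v, (ρ u - 1) ^ 4 *ᵥ v ≠ 0 := by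
    by_contra! e
    exact h4 (K.mat_ext fun x => by rw [e, zero_mulVec])
  obtain ⟨F, F', hF, e1, -⟩ := nf1 t (c.nil5 hu) hv
  have e2 := cj_of hF e1
  set σ := cj hF ρ
  have row : ∀ x ∈ H, ∀ y, (σ x *ᵥ y) 4 = σ x 4 4 * y 4 := fun x hx y => by
    obtain ⟨i, e⟩ := c.rel hu u1 e2 hx
    obtain ⟨a00, a01, a02, a03, a04, a10, a11, a12, a13, a14, a20, a21, a22, a23, a24, a30, a31, a32, a33, a34, a40, a41, a42, a43, a44, e3⟩ := ex5 (σ x)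
    obtain ⟨y0, y1, y2, y3, y4, rfl⟩ := vex5 y
    simp only [e3, ex, mul5, ext5] at e
    obtain ⟨-, -, -, -, -, -, -, -, -, -, -, -, -, -, -, -, -, -, -, -, -, b1, b2, b3, b4⟩ := e
    have c0 : a40 = 0 := by linear_combination b1
    have c1 : a41 = 0 := mul_left_cancel₀ t (by linear_combination 12 * b2 - 12 * c0)
    have c2 : a42 = 0 := mul_left_cancel₀ t (by linear_combination 8 * b3 - 8 * c0 - 24 * c1)
    have c3 : a43 = 0 := mul_left_cancel₀ t (by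
      linear_combination 6 * b4 - 6 * c0 - 24 * c1 - 36 * c2)
    simp [e3, c0, c1, c2, c3, mul_comm]
  have mul : ∀ x ∈ H, ∀ y, σ (x * y) 4 4 = σ x 4 4 * σ y 4 4 := fun x hx y => by
    simpa [map_mul, mul_apply, mulVec, dotProduct] using row x hx fun i => σ y i 4
  letI := Fintype.ofFinite H
  let w := ∑ x : H, σ (x : P)⁻¹ 4 4 • σ x *ᵥ e4 k
  have w4 : w 4 = Nat.card H := by
    simp only [w, Finset.sum_apply, Pi.smul_apply, smul_eq_mul, row _ (SetLike.coe_mem _)]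
    rw [sum_congr rfl (g := fun _ => 1) fun x _ => by
      rw [← mul_assoc, ← mul _ (inv_mem x.2)]; simp [e4]]
    simp
  have wH : ∀ y ∈ H, σ y *ᵥ w = σ y 4 4 • w := fun y hy => by
    simp only [w]
    rw [mulVec_sum, smul_sum, ← Equiv.sum_comp (Equiv.mulLeft (⟨y, hy⟩ : H))
      fun x : H => σ y 4 4 • σ (x : P)⁻¹ 4 4 • σ x *ᵥ e4 k]
    refine sum_congr rfl fun x _ => ?_
    simp only [Equiv.coe_mulLeft, Subgroup.coe_mul, smul_smul, mulVec_smul, mulVec_mulVec, ← map_mul]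
    rw [mul_comm, ← mul _ (inv_mem (mul_mem hy x.2))]
    simp
  obtain ⟨G, G', hG, e3, e4'⟩ := nf1 t (A := σ u) (v := w) (e2 ▸ ex_five) (fun e => by
    obtain ⟨y0, y1, y2, y3, y4, e5⟩ := vex5 w
    rw [e2, ex_four, e5, mv5] at e
    have := congrFun e 0
    rw [e5] at w4
    simp only [Matrix.cons_val] at w4
    exact c.card_ne (w4.symm.trans (by simpa [t] using this)))
  have hB : (F * G) * (G' * F') = 1 := by rw [mul_assoc, ← mul_assoc G, hG, one_mul, hF]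
  have e5 : ∀ g, cj hB ρ g = cj hG σ g := fun g => by simp only [σ, cj_apply, mul_assoc]
  have e6 : cj hB ρ u = ex 1 := (e5 u).trans (cj_of hG e3)
  refine ⟨_, _, hB, hu, u1, fun i => by rw [map_pow, e6, ex_pow, mul_one], fun x hx => ?_⟩
  obtain ⟨i, e⟩ := c.rel hu u1 e6 hx
  have e7 := rigid t (μ := σ x 4 4) e (by
    rw [e5, cj_apply, ← mulVec_mulVec, e4', ← mulVec_mulVec, wH x hx, mulVec_smul, ← e4',
      mulVec_mulVec, mul_eq_one_comm.1 hG, one_mulVec])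
  exact ⟨_, _, by rw [← frobenius_def, map_natCast], by rw [← dg_det, ← e7, (h.cj hB).det], e7⟩

end Cfsg.Agent.L5.R
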