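import Cfsg.Agent.L5.RC2

/-!
A Sylow subgroup of prime order with a single Jordan block: the easy cases.
-/

set_option autoImplicit false
set_option linter.unusedSectionVars false

namespace Cfsg.Agent.L5.R
open Finset Matrix
open Subgroup (normalizer)
open Cfsg.Agent.L5.E (mul5 add5 smul5 ext5 one5 ex5 tr5 mv5 vm5 vext5 vsm5 vex5 zero5)

variable {P k : Type*} [Group P] [Field k] {ρ : P →* M5 k} {U H : Subgroup P} {p : ℕ} {u : P}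

/-- The invariant tensor. -/
def qq (k : Type*) [Field k] : M5 k :=
  !![0, 0, 0, 0, 1; 0, 0, 0, -4, 0; 0, 0, 6, 0, 0; 0, -4, 0, 0, 0; 1, 0, 0, 0, 0]

/-- The invariant form. -/
def gg (k : Type*) [Field k] : M5 k :=
  !![0, 0, 0, 0, 12; 0, 0, 0, -3, 0; 0, 0, 2, 0, 0; 0, -3, 0, 0, 0; 12, 0, 0, 0, 0]

theorem ex_qq (t : k) : ex t * qq k * (ex t)ᵀ = qq k := by
  simp only [ex, qq, tr5, mul5, ext5]
  refine ⟨?_, ?_, ?_, ?_, ?_, ?_, ?_, ?_, ?_, ?_, ?_, ?_, ?_, ?_, ?_, ?_, ?_, ?_, ?_, ?_, ?_, ?_, ?_, ?_, ?_⟩ <;> ring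

theorem ex_gg (t : k) : (ex t)ᵀ * gg k * ex t = gg k := by
  simp only [ex, gg, tr5, mul5, ext5]
  refine ⟨?_, ?_, ?_, ?_, ?_, ?_, ?_, ?_, ?_, ?_, ?_, ?_, ?_, ?_, ?_, ?_, ?_, ?_, ?_, ?_, ?_, ?_, ?_, ?_, ?_⟩ <;> ring

theorem dg_qq (μ κ : k) : dg μ κ * qq k * (dg μ κ)ᵀ = (μ * κ ^ 2) ^ 2 • qq k := by
  simp only [dg, qq, tr5, mul5, smul5, ext5]
  refine ⟨?_, ?_, ?_, ?_, ?_, ?_, ?_, ?_, ?_, ?_, ?_, ?_, ?_, ?_, ?_, ?_, ?_, ?_, ?_, ?_, ?_, ?_, ?_, ?_, ?_⟩ <;> ring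

theorem dg_gg (μ κ : k) : (dg μ κ)ᵀ * gg k * dg μ κ = (μ * κ ^ 2) ^ 2 • gg k := by
  simp only [dg, gg, tr5, mul5, smul5, ext5]
  refine ⟨?_, ?_, ?_, ?_, ?_, ?_, ?_, ?_, ?_, ?_, ?_, ?_, ?_, ?_, ?_, ?_, ?_, ?_, ?_, ?_, ?_, ?_, ?_, ?_, ?_⟩ <;> ring

theorem gg_qq : gg k * qq k = (12 : k) • 1 := by
  simp only [gg, qq, one5, mul5, smul5, ext5]; norm_num

/-- The contraction with the form. -/
def lg (k : Type*) [Field k] : M5 k →ₗ[k] k := traceLinearMap _ k k ∘ₗ LinearMap.mulLeft k (gg k)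

theorem lg_apply (A X : M5 k) : lg k (A * X * Aᵀ) = (Aᵀ * gg k * A * X).trace := by
  simp only [lg, LinearMap.comp_apply, LinearMap.mulLeft_apply, traceLinearMap_apply, ← mul_assoc]
  rw [trace_mul_comm]; simp only [mul_assoc]

theorem lg_qq : lg k (qq k) = 60 := by simp [lg, gg_qq]; norm_num

theorem five_sum (h5 : (5 : k) = 0) : ∑ i ∈ range 5, ex (i : k) *
    !![-1, 0, 0, 0, 0; 0, 0, 0, 0, 0; 0, 0, 0, 0, 0; 0, 0, 0, 0, 0; 1, 0, 0, 0, 0] * ex (-i : k) =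
      (-1 : k) • 1 := by
  simp only [sum_range_succ, range_zero, sum_empty, zero_add, ex, one5, mul5, add5, smul5, ext5]
  push_cast
  refine ⟨?_, ?_, ?_, ?_, ?_, ?_, ?_, ?_, ?_, ?_, ?_, ?_, ?_, ?_, ?_, ?_, ?_, ?_, ?_, ?_, ?_, ?_, ?_, ?_, ?_⟩ <;> grind

variable [Finite P] [hp : Fact p.Prime] [CharP k p]

namespace J5

theorem inv (j : J5 p ρ U H u) (i : ℕ) : ρ (u ^ i)⁻¹ = ex (-i : k) := by
  rw [← mul_one (ρ _), ← ex_zero, ← add_neg_cancel (i : k), ← ex_mul, ← j.eu, ← mul_assoc, K.inv_l,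
    one_mul]

theorem exU (j : J5 p ρ U H u) (c : Gx p 1 U H) {v : P} (hv : v ∈ U) : ∃ i : ℕ, ρ v = ex (i : k) := by
  obtain ⟨i, rfl⟩ := c.gen j.mem j.ne hv
  exact ⟨i, j.eu i⟩

theorem lvl (j : J5 p ρ U H u) (c : Gx p 1 U H) :
    ∀ v ∈ U, ∀ a b, ![4, 3, 2, 1, 0] a ≤ ![4, 3, 2, 1, 0] b → (ρ v - 1) a b = 0 := fun v hv a b e => by
  obtain ⟨i, h⟩ := j.exU c hv
  rw [h, one5]
  fin_cases a <;> fin_cases b <;> simp [ex] at e ⊢

theorem big (j : J5 p ρ U H u) (c : Gx p 1 U H) (h : Hy ρ) (h7 : 7 ≤ p)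
    (e : 11 ≤ p ∨ ∀ x ∈ H, ∀ μ κ : k, ρ x = R.dg μ κ → μ * κ ^ 2 = 1) : False := by
  have h60 : lg k (qq k) ≠ 0 := fun e => by
    have : p ∣ 2 ^ 2 * 3 * 5 := (CharP.cast_eq_zero_iff k p _).1 (by simpa [lg_qq] using e)
    rcases (Nat.Prime.dvd_mul hp.out).1 this with h | h
    · rcases (Nat.Prime.dvd_mul hp.out).1 h with h | h
      · have := Nat.le_of_dvd two_pos (hp.out.dvd_of_dvd_pow h); omega
      · have := Nat.le_of_dvd three_pos h; omega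
    · have := Nat.le_of_dvd (by norm_num) h; omega
  have hU : ∀ v ∈ U, ρ v * qq k * (ρ v)ᵀ = qq k ∧ ∀ X, lg k (ρ v * X * (ρ v)ᵀ) = lg k X :=
    fun v hv => by
      obtain ⟨i, e⟩ := j.exU c hv
      exact ⟨by rw [e, ex_qq], fun X => by rw [lg_apply, e, ex_gg]; rfl⟩
  rcases e with e | e
  · refine GL1 h c (norm_sq_of c (m := 4) (by omega) fun a b =>
      (dgA_entry _ (j.lvl c) (fun i => by fin_cases i <;> simp) a b).dg) (lg k) h60 hU fun x hx => ?_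
    obtain ⟨μ, κ, -, -, e⟩ := j.dg x hx
    exact ⟨_, by rw [e, dg_qq], fun X => by rw [lg_apply, e, dg_gg, smul_mul_assoc, trace_smul]; rfl⟩
  · refine h60 (TT' h c (fun n hn => ?_) _ fun v hv => (hU v hv).2)
    obtain ⟨v, hv, x, hx, rfl⟩ := c.fac n hn
    obtain ⟨μ, κ, -, -, e1⟩ := j.dg x hx
    rw [map_mul, transpose_mul, mul_assoc (ρ v), ← mul_assoc _ _ (ρ v)ᵀ, mul_assoc (ρ v), e1, dg_qq,
      e x hx μ κ e1, one_pow, one_smul, (hU v hv).1]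

end J5

theorem J5.five {P : Type*} [Group P] [Fintype P] {ρ : P →* M5 k} {U H : Subgroup P} {u : P}
    [CharP k 5] (j : J5 5 ρ U H u) (c : Gx 5 1 U H) : Proj ρ := by
  haveI := Fact.mk Nat.prime_five
  letI := Fintype.ofFinite U
  refine E.Ch.proj_sub U (fun e => c.syl ((CharP.cast_eq_zero_iff k 5 _).1 e)) (-LinearMap.mulLeft k
    !![-1, 0, 0, 0, 0; 0, 0, 0, 0, 0; 0, 0, 0, 0, 0; 0, 0, 0, 0, 0; 1, 0, 0, 0, 0]) fun X _ => ?_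
  have := congrArg (fun Y => -(Y * X)) (five_sum (k := k) (CharP.cast_eq_zero k 5))
  simp only [neg_smul, one_smul, neg_mul, one_mul, neg_neg, Finset.sum_mul, ← sum_neg_distrib,
    ← j.inv, ← j.eu] at this
  rw [← c.sumU j.mem j.ne fun s => -(ρ s * _ * ρ s⁻¹ * X), finsum_eq_sum_of_fintype] at this
  refine Eq.trans (sum_congr rfl fun s _ => ?_) this
  simp only [LinearMap.neg_apply, LinearMap.mulLeft_apply, mul_neg, neg_mul, mul_assoc, ← map_mul,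
    mul_inv_cancel, map_one, mul_one]

end Cfsg.Agent.L5.R
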